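import Groth.Agent.H70.FlatAss.FibreDepth
import Groth.Agent.H70.FC.Depth
import Mathlib.RingTheory.Regular.RegularSequence

/-!
# Regular sequences on the closed fibre lift to infinitesimal neighbourhoods (helper70)
-/

set_option autoImplicit false
universe u
open scoped TensorProduct Pointwise
open Function (Injective Surjective Exact)

namespace Groth.Agent.H70.FlatAss

open Groth.Agent.H70.FC.T1 Groth.Agent.H70.FC.FP

section Iff

variable {A B : Type u} [CommRing A] [CommRing B] [Algebra A B]
  (M : Type u) [AddCommGroup M] [Module B M] [Module A M] [IsScalarTower A B M]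

/-- multiplication by `x : B` as an `A`-linear endomorphism. -/
noncomputable abbrev mulEnd (x : B) : M →ₗ[A] M := (LinearMap.lsmul B M x).restrictScalars A

/-- `x ⊗ A/𝔞` is injective iff `x` is regular on `M / 𝔞B M`. -/
theorem lTensor_quotient_injective_iff (𝔞 : Ideal A) (x : B) :
    Injective ((mulEnd (A := A) M x).lTensor (A ⧸ 𝔞)) ↔
      IsSMulRegular (M ⧸ (𝔞.map (algebraMap A B) • (⊤ : Submodule B M))) x := by
  let P : Submodule B M := 𝔞.map (algebraMap A B) • (⊤ : Submodule B M)
  have hP : (𝔞 • (⊤ : Submodule A M)) = P.restrictScalars A := by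
    rw [Ideal.smul_restrictScalars, Submodule.restrictScalars_top]
  let e₁ := TensorProduct.quotTensorEquivQuotSMul M 𝔞
  let e₂ := Submodule.quotEquivOfEq _ _ hP
  let e₃ := Submodule.Quotient.restrictScalarsEquiv A P
  let φ : (A ⧸ 𝔞) ⊗[A] M ≃ₗ[A] (M ⧸ P) := e₁ ≪≫ₗ e₂ ≪≫ₗ e₃
  have hφ : ∀ z, φ ((mulEnd (A := A) M x).lTensor (A ⧸ 𝔞) z) = x • φ z := by
    intro z
    induction z using TensorProduct.induction_on with
    | zero => simp
    | tmul a y =>
      obtain ⟨a, rfl⟩ := Ideal.Quotient.mk_surjective a
      simp only [LinearMap.lTensor_tmul, LinearMap.restrictScalars_apply, LinearMap.lsmul_apply, φ,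
        LinearEquiv.trans_apply, e₁, TensorProduct.quotTensorEquivQuotSMul_mk_tmul, e₂, e₃,
        Submodule.quotEquivOfEq_mk, Submodule.Quotient.restrictScalarsEquiv_mk]
      rw [← Submodule.Quotient.mk_smul, smul_comm]
    | add a b ha hb => simp only [map_add, ha, hb, smul_add]
  constructor
  · intro h z w hzw
    obtain ⟨z, rfl⟩ := φ.surjective z
    obtain ⟨w, rfl⟩ := φ.surjective w
    change x • φ z = x • φ w at hzw
    rw [← hφ, ← hφ] at hzw
    rw [h (φ.injective hzw)]
  · intro hx z w hzw
    apply φ.injective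
    apply hx
    change x • φ z = x • φ w
    rw [← hφ, ← hφ, hzw]

end Iff

section PowKilled

/-- If `M` is flat and `μ ⊗ A/m` is injective (`m` maximal) then `μ ⊗ T` is injective for every
`T` killed by a power of `m`. -/
theorem lTensor_injective_of_pow_killed {A : Type u} [CommRing A] (m : Ideal A) [m.IsMaximal]
    (M : Type u) [AddCommGroup M] [Module A M] [Module.Flat A M] (μ : M →ₗ[A] M)
    (hμ : Injective (μ.lTensor (A ⧸ m))) :
    ∀ j : ℕ, ∀ (T : Type u) [AddCommGroup T] [Module A T],
      m ^ j • (⊤ : Submodule A T) = ⊥ → Injective (μ.lTensor T) := by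
  intro j
  induction j with
  | zero =>
    intro T _ _ h
    have : Subsingleton T := by
      rw [pow_zero, Ideal.one_eq_top, Submodule.top_smul] at h
      exact (Submodule.subsingleton_iff A).mp (subsingleton_of_bot_eq_top h.symm)
    intro a b _
    exact Subsingleton.elim a b
  | succ j ih =>
    intro T _ _ h
    let T' : Submodule A T := m • ⊤
    have h1 : Injective (μ.lTensor T') := by
      apply ih T'
      apply Submodule.map_injective_of_injective (Submodule.injective_subtype T')
      rw [Submodule.map_smul'', Submodule.map_top, Submodule.range_subtype, Submodule.map_bot,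
        ← Submodule.mul_smul, ← pow_succ]
      exact h
    have h2 : Injective (μ.lTensor (T ⧸ T')) := by
      apply lTensor_injective_of_killed m M μ hμ (T ⧸ T')
      intro a ha n
      obtain ⟨t, rfl⟩ := Submodule.Quotient.mk_surjective _ n
      rw [← Submodule.Quotient.mk_smul, Submodule.Quotient.mk_eq_zero]
      exact Submodule.smul_mem_smul ha Submodule.mem_top
    have hι : Injective (T'.subtype.rTensor M) :=
      Module.Flat.rTensor_preserves_injective_linearMap _ (Submodule.injective_subtype _)
    have hex : Exact (T'.subtype.rTensor M) (T'.mkQ.rTensor M) :=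
      rTensor_exact M (LinearMap.exact_subtype_mkQ T') (Submodule.mkQ_surjective T')
    rw [injective_iff_map_eq_zero]
    intro z hz
    have hz'' : T'.mkQ.rTensor M z = 0 := by
      apply h2
      rw [map_zero, ← LinearMap.comp_apply, LinearMap.lTensor_comp_rTensor,
        ← LinearMap.rTensor_comp_lTensor, LinearMap.comp_apply, hz, map_zero]
    obtain ⟨z', rfl⟩ := (hex z).mp hz''
    have hz' : μ.lTensor T' z' = 0 := by
      apply hι
      rw [map_zero, ← LinearMap.comp_apply, LinearMap.rTensor_comp_lTensor,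
        ← LinearMap.lTensor_comp_rTensor, LinearMap.comp_apply]
      exact hz
    rw [h1 (hz'.trans (map_zero _).symm), map_zero]

end PowKilled

section LocalCriterion

open IsLocalRing

variable {A B : Type u} [CommRing A] [CommRing B] [Algebra A B] [IsLocalRing A]
  [IsNoetherianRing A] [IsNoetherianRing B] [IsLocalRing B] [IsLocalHom (algebraMap A B)]

/-- The local criterion of flatness: a finite module over a Noetherian local `A`-algebra `B`
(local homomorphism) with `Tor_1^A(A/m, N) = 0` is flat over `A`. -/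
theorem flat_of_tor1Zero_residue (N : Type u) [AddCommGroup N] [Module B N] [Module A N]
    [IsScalarTower A B N] [Module.Finite B N]
    (hT : Tor1Zero A (A ⧸ maximalIdeal A) N) : Module.Flat A N := by
  have hI : (maximalIdeal A).map (algebraMap A B) ≤ Ideal.jacobson ⊥ := by
    rw [IsLocalRing.jacobson_eq_maximalIdeal ⊥ bot_ne_top]
    exact IsLocalRing.map_maximalIdeal_le (algebraMap A B)
  refine flat_of_lTensor_injective_quotient_pow (S := B) (maximalIdeal A) hI ?_
  intro n hn Jbar
  letI : Field (A ⧸ maximalIdeal A) := Ideal.Quotient.field _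
  have hflat : Module.Flat (A ⧸ maximalIdeal A) ((A ⧸ maximalIdeal A) ⊗[A] N) := inferInstance
  have h := tor1Zero_of_pow_smul_eq_bot (maximalIdeal A) hT n ((A ⧸ maximalIdeal A ^ n) ⧸ Jbar) (by
    rw [eq_bot_iff]
    intro z hz
    refine Submodule.smul_induction_on hz ?_ ?_
    · intro a ha w _
      obtain ⟨w, rfl⟩ := Submodule.Quotient.mk_surjective _ w
      obtain ⟨b, rfl⟩ := Ideal.Quotient.mk_surjective w
      have h1 : a • (Submodule.Quotient.mk (p := Jbar) (Ideal.Quotient.mk (maximalIdeal A ^ n) b)) =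
          Submodule.Quotient.mk (Ideal.Quotient.mk (maximalIdeal A ^ n) (a * b)) := rfl
      rw [h1, Submodule.mem_bot]
      have : Ideal.Quotient.mk (maximalIdeal A ^ n) (a * b) = 0 := by
        rw [Ideal.Quotient.eq_zero_iff_mem]
        exact Ideal.mul_mem_right _ _ ha
      rw [this, Submodule.Quotient.mk_zero]
    · intro x y hx hy
      exact Submodule.add_mem _ hx hy)
  exact lTensor_injective_of_tor1Zero ((Submodule.subtype Jbar).restrictScalars A)
    ((Submodule.mkQ Jbar).restrictScalars A) (Submodule.injective_subtype Jbar)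
    (LinearMap.exact_subtype_mkQ Jbar) (Submodule.mkQ_surjective Jbar) h

end LocalCriterion

section Shuffle

variable {B : Type u} [CommRing B] (M : Type u) [AddCommGroup M] [Module B M]

/-- `(M / 𝔟M) / x ≃ (M / xM) / 𝔟`. -/
noncomputable def shuffle (𝔟 : Ideal B) (x : B) :
    QuotSMulTop x (M ⧸ (𝔟 • (⊤ : Submodule B M))) ≃ₗ[B]
      (QuotSMulTop x M) ⧸ (𝔟 • (⊤ : Submodule B (QuotSMulTop x M))) := by
  let S : Submodule B M := 𝔟 • ⊤
  let T : Submodule B M := x • ⊤
  have hL : (x • (⊤ : Submodule B (M ⧸ S))) = T.map S.mkQ := by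
    ext w
    constructor
    · intro hw
      obtain ⟨w', -, rfl⟩ := (Submodule.mem_smul_pointwise_iff_exists _ _ _).mp hw
      obtain ⟨v, rfl⟩ := Submodule.Quotient.mk_surjective _ w'
      exact ⟨x • v, Submodule.smul_mem_pointwise_smul _ _ _ Submodule.mem_top, rfl⟩
    · rintro ⟨v, hv, rfl⟩
      obtain ⟨v', -, rfl⟩ := (Submodule.mem_smul_pointwise_iff_exists _ _ _).mp hv
      rw [map_smul]
      exact Submodule.smul_mem_pointwise_smul _ _ _ Submodule.mem_top
  have hR : (𝔟 • (⊤ : Submodule B (M ⧸ T))) = S.map T.mkQ := by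
    rw [Submodule.map_smul'', Submodule.map_top, Submodule.range_mkQ]
  exact (Submodule.quotEquivOfEq _ _ hL) ≪≫ₗ Submodule.quotientQuotientEquivQuotientSup S T ≪≫ₗ
    Submodule.quotEquivOfEq _ _ (sup_comm S T) ≪≫ₗ
    (Submodule.quotientQuotientEquivQuotientSup T S).symm ≪≫ₗ (Submodule.quotEquivOfEq _ _ hR).symm

theorem isSMulRegular_shuffle_iff (𝔟 : Ideal B) (x y : B) :
    IsSMulRegular (QuotSMulTop x (M ⧸ (𝔟 • (⊤ : Submodule B M)))) y ↔
      IsSMulRegular ((QuotSMulTop x M) ⧸ (𝔟 • (⊤ : Submodule B (QuotSMulTop x M)))) y :=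
  (shuffle M 𝔟 x).toEquiv.isSMulRegular_congr (fun w => map_smul (shuffle M 𝔟 x) y w)

end Shuffle

section Reg

open IsLocalRing

variable {A B : Type u} [CommRing A] [CommRing B] [Algebra A B] [IsLocalRing A]
  (M : Type u) [AddCommGroup M] [Module B M] [Module A M] [IsScalarTower A B M]

/-- If `M` is `A`-flat and `x` is regular on the closed fibre `M / mM` then `x` is regular on all
`M / m^n M`. -/
theorem isSMulRegular_quot_pow [Module.Flat A M] (x : B)
    (hx : IsSMulRegular
      (M ⧸ ((maximalIdeal A).map (algebraMap A B) • (⊤ : Submodule B M))) x) (n : ℕ) :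
    IsSMulRegular
      (M ⧸ (((maximalIdeal A).map (algebraMap A B)) ^ n • (⊤ : Submodule B M))) x := by
  rw [← Ideal.map_pow, ← lTensor_quotient_injective_iff]
  apply lTensor_injective_of_pow_killed (maximalIdeal A) M _
    ((lTensor_quotient_injective_iff M _ x).mpr hx) n
  rw [eq_bot_iff]
  intro z hz
  refine Submodule.smul_induction_on hz ?_ ?_
  · intro a ha w _
    obtain ⟨b, rfl⟩ := Ideal.Quotient.mk_surjective w
    have h1 : a • (Ideal.Quotient.mk (maximalIdeal A ^ n) b) =
        Ideal.Quotient.mk (maximalIdeal A ^ n) (a * b) := rfl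
    rw [h1, Submodule.mem_bot, Ideal.Quotient.eq_zero_iff_mem]
    exact Ideal.mul_mem_right _ _ ha
  · intro x y hx hy
    exact Submodule.add_mem _ hx hy

variable [IsNoetherianRing A] [IsNoetherianRing B] [IsLocalRing B] [IsLocalHom (algebraMap A B)]
  [Module.Finite B M]

omit [IsNoetherianRing A] in
theorem isSMulRegular_of_fibre [Module.Flat A M] (x : B)
    (hx : IsSMulRegular
      (M ⧸ ((maximalIdeal A).map (algebraMap A B) • (⊤ : Submodule B M))) x) :
    IsSMulRegular M x := by
  rw [isSMulRegular_iff_right_eq_zero_of_smul]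
  intro w hw
  have hI : (maximalIdeal A).map (algebraMap A B) ≤ Ideal.jacobson ⊥ := by
    rw [IsLocalRing.jacobson_eq_maximalIdeal ⊥ bot_ne_top]
    exact IsLocalRing.map_maximalIdeal_le (algebraMap A B)
  have hkrull := Ideal.iInf_pow_smul_eq_bot_of_le_jacobson
    ((maximalIdeal A).map (algebraMap A B)) (M := M) hI
  have : w ∈ (⨅ i : ℕ, ((maximalIdeal A).map (algebraMap A B)) ^ i • ⊤ : Submodule B M) := by
    rw [Submodule.mem_iInf]
    intro n
    have hreg := isSMulRegular_quot_pow M x hx n
    rw [isSMulRegular_iff_right_eq_zero_of_smul] at hreg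
    have := hreg (Submodule.Quotient.mk w) (by
      rw [← Submodule.Quotient.mk_smul, hw, Submodule.Quotient.mk_zero])
    exact (Submodule.Quotient.mk_eq_zero _).mp this
  rw [hkrull] at this
  exact (Submodule.mem_bot B).mp this

theorem flat_quotSMulTop [Module.Flat A M] (x : B)
    (hx : IsSMulRegular
      (M ⧸ ((maximalIdeal A).map (algebraMap A B) • (⊤ : Submodule B M))) x) :
    Module.Flat A (QuotSMulTop x M) := by
  apply flat_of_tor1Zero_residue (B := B)
  have hinj : Injective (mulEnd (A := A) M x) := isSMulRegular_of_fibre M x hx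
  have hex : Exact (mulEnd (A := A) M x)
      ((Submodule.mkQ (x • ⊤ : Submodule B M)).restrictScalars A) := by
    intro w
    constructor
    · intro hw
      have : w ∈ (x • ⊤ : Submodule B M) := (Submodule.Quotient.mk_eq_zero _).mp hw
      obtain ⟨v, -, rfl⟩ := (Submodule.mem_smul_pointwise_iff_exists _ _ _).mp this
      exact ⟨v, rfl⟩
    · rintro ⟨v, rfl⟩
      exact (Submodule.Quotient.mk_eq_zero _).mpr
        (Submodule.smul_mem_pointwise_smul _ _ _ Submodule.mem_top)
  rw [tor1Zero_iff_right (mulEnd (A := A) M x)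
    ((Submodule.mkQ (x • ⊤ : Submodule B M)).restrictScalars A) hinj hex
    (Submodule.mkQ_surjective _)]
  exact (lTensor_quotient_injective_iff M _ x).mpr hx

/-- A regular sequence `x, y ∈ J` on the closed fibre of an `A`-flat finite `B`-module stays
regular on all infinitesimal neighbourhoods of the closed fibre. -/
theorem two_le_idealDepth_quot_pow [Module.Flat A M] (J : Ideal B) (x y : B) (hxJ : x ∈ J)
    (hyJ : y ∈ J)
    (hx : IsSMulRegular
      (M ⧸ ((maximalIdeal A).map (algebraMap A B) • (⊤ : Submodule B M))) x)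
    (hy : IsSMulRegular
      (QuotSMulTop x (M ⧸ ((maximalIdeal A).map (algebraMap A B) • (⊤ : Submodule B M)))) y)
    (n : ℕ) :
    2 ≤ LocCoh.idealDepth J
      (M ⧸ (((maximalIdeal A).map (algebraMap A B)) ^ n • (⊤ : Submodule B M))) := by
  have := flat_quotSMulTop M x hx
  have hy₁ : IsSMulRegular ((QuotSMulTop x M) ⧸
      ((maximalIdeal A).map (algebraMap A B) • (⊤ : Submodule B (QuotSMulTop x M)))) y :=
    (isSMulRegular_shuffle_iff M ((maximalIdeal A).map (algebraMap A B)) x y).mp hy
  have hy₂ := isSMulRegular_quot_pow (QuotSMulTop x M) y hy₁ n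
  have hy₃ : IsSMulRegular (QuotSMulTop x
      (M ⧸ (((maximalIdeal A).map (algebraMap A B)) ^ n • (⊤ : Submodule B M)))) y :=
    (isSMulRegular_shuffle_iff M (((maximalIdeal A).map (algebraMap A B)) ^ n) x y).mpr hy₂
  exact Groth.Agent.H70.FC.D.two_le_idealDepth_of_regular J _ x y hxJ hyJ
    (isSMulRegular_quot_pow M x hx n) hy₃

end Reg

end Groth.Agent.H70.FlatAss
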