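import Mathlib.RingTheory.Ideal.AssociatedPrime.Finiteness
import Mathlib.RingTheory.Flat.EquationalCriterion
import Mathlib.LinearAlgebra.TensorProduct.Quotient
import Mathlib.RingTheory.Noetherian.Basic

/-!
# Associated primes of flat modules (helper70)

`Ass_A(F) ⊆ Ass_A(B)` for a flat module `F` over a Noetherian `A`-algebra `B`, and
`Ass_A(A/J^n) ⊆ Ass_A(A/J)` when the graded pieces `J^k/J^{k+1}` are flat over `A/J`.
-/

set_option autoImplicit false
universe u
open scoped TensorProduct
open Function (Injective Surjective Exact)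

namespace Groth.Agent.H70.FlatAss

variable {A : Type u} [CommRing A] [IsNoetherianRing A]

theorem associatedPrimes_subset_of_flat (B : Type u) [CommRing B] [Algebra A B]
    [IsNoetherianRing B] (F : Type u) [AddCommGroup F] [Module A F] [Module B F]
    [IsScalarTower A B F] [Module.Flat B F] : associatedPrimes A F ⊆ associatedPrimes A B := by
  classical
  intro p hp
  rw [AssociatedPrimes.mem_iff, isAssociatedPrime_iff] at hp ⊢
  obtain ⟨hpp, x₀, hx₀⟩ := hp
  refine ⟨hpp, ?_⟩
  have hmem : ∀ a : A, a ∈ p ↔ a • x₀ = 0 := by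
    intro a
    rw [hx₀, Submodule.mem_colon_singleton, Submodule.mem_bot]
  set q : Ideal B := p.map (algebraMap A B) with hq
  have hqx : ∀ b ∈ q, b • x₀ = 0 := by
    intro b hb
    refine Submodule.span_induction ?_ ?_ ?_ ?_ hb
    · rintro _ ⟨a, ha, rfl⟩
      rw [algebraMap_smul]
      exact (hmem a).mp ha
    · simp
    · intro x y _ _ hx hy
      rw [add_smul, hx, hy, add_zero]
    · intro c x _ hx
      rw [smul_eq_mul, mul_smul, hx, smul_zero]
  let f : q →ₗ[B] B := q.subtype
  let xmap : B →ₗ[B] F := LinearMap.toSpanSingleton B F x₀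
  have h : xmap ∘ₗ f = 0 := by
    ext b
    simp only [LinearMap.comp_apply, LinearMap.zero_apply, f, xmap, Submodule.subtype_apply,
      LinearMap.toSpanSingleton_apply]
    exact hqx b.1 b.2
  obtain ⟨k, a, y, hxy, haf⟩ := Module.Flat.exists_factorization_of_comp_eq_zero_of_free h
  let c : Fin k → B := fun j => a 1 j
  have hx₀c : x₀ = ∑ j, c j • y (Finsupp.single j 1) := by
    have h1 : x₀ = xmap 1 := by simp [xmap]
    rw [h1, hxy, LinearMap.comp_apply]
    conv_lhs => rw [← Finsupp.univ_sum_single (a 1)]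
    rw [map_sum]
    refine Finset.sum_congr rfl fun j _ => ?_
    rw [← map_smul, Finsupp.smul_single, smul_eq_mul, mul_one]
  have hpc : ∀ a' ∈ p, ∀ j, a' • c j = 0 := by
    intro a' ha' j
    have hmemq : algebraMap A B a' ∈ q := Ideal.mem_map_of_mem _ ha'
    have h2 : a (f ⟨algebraMap A B a', hmemq⟩) = 0 := by
      have := LinearMap.congr_fun haf ⟨algebraMap A B a', hmemq⟩
      simpa using this
    have h3 : f ⟨algebraMap A B a', hmemq⟩ = (algebraMap A B a') • (1 : B) := by
      simp [f]
    rw [h3, map_smul] at h2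
    have h4 := DFunLike.congr_fun h2 j
    rw [Finsupp.smul_apply, Finsupp.zero_apply, smul_eq_mul] at h4
    rw [Algebra.smul_def]
    exact h4
  by_contra hcon
  push Not at hcon
  have hex : ∀ j, ∃ s : A, s • c j = 0 ∧ s ∉ p := by
    intro j
    by_contra hj
    push Not at hj
    apply hcon (c j)
    apply le_antisymm
    · intro a' ha'
      rw [Submodule.mem_colon_singleton, Submodule.mem_bot]
      exact hpc a' ha' j
    · intro s hs
      rw [Submodule.mem_colon_singleton, Submodule.mem_bot] at hs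
      exact hj s hs
  choose s hs hsp using hex
  have hprod : (∏ j, s j) ∉ p := by
    rw [Ideal.IsPrime.prod_mem_iff]
    rintro ⟨j, _, hj⟩
    exact hsp j hj
  apply hprod
  rw [hmem, hx₀c, Finset.smul_sum]
  refine Finset.sum_eq_zero fun j _ => ?_
  obtain ⟨t, ht⟩ := Finset.dvd_prod_of_mem s (Finset.mem_univ j)
  rw [ht, ← smul_assoc, mul_comm, mul_smul, hs j, smul_zero, zero_smul]

/-- If all `J^k/J^{k+1}` are flat over `A/J`, then `Ass_A(A/J^n) ⊆ Ass_A(A/J)`. -/
theorem associatedPrimes_quotient_pow_subset (J : Ideal A)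
    (hgr : ∀ k : ℕ, Module.Flat (A ⧸ J) ((A ⧸ J) ⊗[A] ↥(J ^ k))) (n : ℕ) :
    associatedPrimes A (A ⧸ J ^ n) ⊆ associatedPrimes A (A ⧸ J) := by
  induction n with
  | zero =>
    rw [pow_zero, Ideal.one_eq_top]
    haveI : Subsingleton (A ⧸ (⊤ : Ideal A)) := Ideal.Quotient.subsingleton_iff.mpr rfl
    rw [associatedPrimes.eq_empty_of_subsingleton]
    exact Set.empty_subset _
  | succ n ih =>
    let N : Submodule A ↥(J ^ n) := J • ⊤
    have hNmem : ∀ j : ↥(J ^ n), j ∈ N ↔ (j : A) ∈ J ^ (n + 1) := by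
      intro j
      rw [Submodule.mem_smul_top_iff, pow_succ', Ideal.smul_eq_mul]
    have hN : N ≤ Submodule.comap (J ^ n).subtype (J ^ (n + 1)) := by
      intro j hj
      rw [Submodule.mem_comap]
      exact (hNmem j).mp hj
    let f : (↥(J ^ n) ⧸ N) →ₗ[A] (A ⧸ J ^ (n + 1)) :=
      Submodule.mapQ N (J ^ (n + 1)) (Submodule.subtype (J ^ n)) hN
    let g : (A ⧸ J ^ (n + 1)) →ₗ[A] (A ⧸ J ^ n) :=
      Submodule.mapQ (J ^ (n + 1)) (J ^ n) LinearMap.id (by
        intro a ha
        exact Ideal.pow_le_pow_right (Nat.le_succ n) ha)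
    have hf : Injective f := by
      rw [injective_iff_map_eq_zero]
      intro x hx
      obtain ⟨j, rfl⟩ := Submodule.Quotient.mk_surjective _ x
      rw [Submodule.mapQ_apply, Submodule.Quotient.mk_eq_zero] at hx
      rw [Submodule.Quotient.mk_eq_zero]
      exact (hNmem j).mpr hx
    have hfg : Exact f g := by
      intro y
      obtain ⟨a, rfl⟩ := Submodule.Quotient.mk_surjective _ y
      constructor
      · intro hy
        rw [Submodule.mapQ_apply, Submodule.Quotient.mk_eq_zero] at hy
        exact ⟨Submodule.Quotient.mk ⟨a, hy⟩, by rw [Submodule.mapQ_apply]; rfl⟩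
      · rintro ⟨x, hx⟩
        obtain ⟨j, rfl⟩ := Submodule.Quotient.mk_surjective _ x
        rw [Submodule.mapQ_apply] at hx
        rw [← hx, Submodule.mapQ_apply, Submodule.Quotient.mk_eq_zero]
        exact j.2
    have h1 := associatedPrimes.subset_union_of_exact hf hfg
    have h2 : associatedPrimes A (↥(J ^ n) ⧸ N) ⊆ associatedPrimes A (A ⧸ J) := by
      rw [← LinearEquiv.AssociatedPrimes.eq (TensorProduct.quotTensorEquivQuotSMul ↥(J ^ n) J)]
      have := hgr n
      have : IsNoetherianRing (A ⧸ J) :=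
        isNoetherianRing_of_surjective A (A ⧸ J) (Ideal.Quotient.mk J) Ideal.Quotient.mk_surjective
      exact associatedPrimes_subset_of_flat (A ⧸ J) _
    exact h1.trans (Set.union_subset h2 ih)

end Groth.Agent.H70.FlatAss
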