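import Groth.Agent.H70.FC.Tor1
import Mathlib.RingTheory.Ideal.AssociatedPrime.Finiteness
import Mathlib.RingTheory.Localization.BaseChange
import Mathlib.RingTheory.Regular.IsSMulRegular
import Mathlib.RingTheory.Flat.Localization
import Mathlib.Algebra.Module.Torsion.Basic

/-!
# Flatness over a Noetherian ring from flatness modulo a nilpotent ideal and at associated primes
(EGA IV 11.?; helper70)
-/

set_option autoImplicit false
universe u
open scoped TensorProduct
open Function (Injective Surjective Exact)

namespace Groth.Agent.H70.FlatAss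

open Groth.Agent.H70.FC.T1

/-- transitivity of flat base change. -/
theorem flat_baseChange_of_tower {R : Type u} [CommRing R] (B C : Type u) [CommRing B] [CommRing C]
    [Algebra R B] [Algebra R C] [Algebra B C] [IsScalarTower R B C]
    (M : Type u) [AddCommGroup M] [Module R M] [Module.Flat B (B ⊗[R] M)] :
    Module.Flat C (C ⊗[R] M) :=
  Module.Flat.of_linearEquiv (TensorProduct.AlgebraTensorModule.cancelBaseChange R B C C M).symm

theorem isSMulRegular_tensor {R : Type u} [CommRing R] (B : Type u) [CommRing B] [Algebra R B]
    (N : Type u) [AddCommGroup N] [Module R N] [Module B N] [IsScalarTower R B N]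
    (M : Type u) [AddCommGroup M] [Module R M] [Module.Flat B (B ⊗[R] M)] (s : R)
    (hs : IsSMulRegular N s) : IsSMulRegular (N ⊗[R] M) s := by
  have hs' : IsSMulRegular N (algebraMap R B s) := by
    intro x y h
    simp only [algebraMap_smul] at h
    exact hs h
  have h1 : IsSMulRegular (N ⊗[B] (B ⊗[R] M)) (algebraMap R B s) := hs'.rTensor (B ⊗[R] M)
  let e := TensorProduct.AlgebraTensorModule.cancelBaseChange R B B N M
  intro x y h
  obtain ⟨x', rfl⟩ := e.surjective x
  obtain ⟨y', rfl⟩ := e.surjective y
  congr 1
  apply h1
  apply e.injective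
  simp only [map_smul]
  rw [algebraMap_smul, algebraMap_smul]
  exact h

section Ass

variable {R : Type u} [CommRing R] [IsNoetherianRing R]

/-- `Ass_R (A / Ann_A K) ⊆ Ass_R A` for a finitely generated ideal `K` of an `R`-algebra `A`. -/
theorem associatedPrimes_quotient_annihilator_subset (A : Type u) [CommRing A] [Algebra R A]
    (K : Ideal A) (hK : K.FG) :
    associatedPrimes R (A ⧸ (Submodule.annihilator K : Ideal A)) ⊆ associatedPrimes R A := by
  intro p hp
  rw [AssociatedPrimes.mem_iff, isAssociatedPrime_iff] at hp ⊢
  obtain ⟨hpp, xb, hx⟩ := hp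
  obtain ⟨x, rfl⟩ := Ideal.Quotient.mk_surjective xb
  obtain ⟨s, rfl⟩ := hK
  refine ⟨hpp, ?_⟩
  have hmem : ∀ r : R, r ∈ p ↔ ∀ j ∈ s, r • (x * j) = 0 := by
    intro r
    have h1 : r • (Ideal.Quotient.mk (Submodule.annihilator (Ideal.span (s : Set A))) x) =
        Ideal.Quotient.mk _ (r • x) := rfl
    rw [hx, Submodule.mem_colon_singleton, Submodule.mem_bot, h1,
      Ideal.Quotient.eq_zero_iff_mem, Ideal.span, Submodule.mem_annihilator_span]
    constructor
    · intro h j hj
      have := h ⟨j, hj⟩
      simpa [smul_mul_assoc] using this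
    · intro h j
      have := h j.1 j.2
      simpa [smul_mul_assoc] using this
  classical
  have hp_eq : p = s.inf (fun j => (⊥ : Submodule R A).colon {x * j}) := by
    ext r
    rw [hmem, Submodule.mem_finsetInf]
    simp only [Submodule.mem_colon_singleton, Submodule.mem_bot]
  obtain ⟨j, hj, hle⟩ := hpp.inf_le'.mp hp_eq.ge
  exact ⟨x * j, le_antisymm (hp_eq.le.trans (Finset.inf_le hj)) hle⟩

omit [IsNoetherianRing R] in
/-- If `M_p` is `R`-flat, elements of the kernel of `M ⊗ N → M ⊗ N'` (for injective `N → N'`)
are killed by some `s ∉ p`. -/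
theorem exists_smul_eq_zero_of_flat_localizedModule (p : Ideal R) [p.IsPrime]
    (M : Type u) [AddCommGroup M] [Module R M]
    [Module.Flat R (LocalizedModule p.primeCompl M)]
    {N N' : Type u} [AddCommGroup N] [Module R N] [AddCommGroup N'] [Module R N']
    (ι : N →ₗ[R] N') (hι : Injective ι) (t : M ⊗[R] N) (ht : ι.lTensor M t = 0) :
    ∃ s : R, s ∉ p ∧ s • t = 0 := by
  let g := LocalizedModule.mkLinearMap p.primeCompl M
  have hinj : Injective (ι.lTensor (LocalizedModule p.primeCompl M)) :=
    Module.Flat.lTensor_preserves_injective_linearMap ι hι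
  have h0 : g.rTensor N t = 0 := by
    apply hinj
    rw [map_zero, ← LinearMap.comp_apply, LinearMap.lTensor_comp_rTensor,
      ← LinearMap.rTensor_comp_lTensor, LinearMap.comp_apply, ht, map_zero]
  have inst : IsLocalizedModule p.primeCompl
      (TensorProduct.AlgebraTensorModule.rTensor R N g) := inferInstance
  have h0' : (TensorProduct.AlgebraTensorModule.rTensor R N g) t =
      (TensorProduct.AlgebraTensorModule.rTensor R N g) 0 := by
    rw [map_zero]; exact h0
  obtain ⟨c, hc⟩ := IsLocalizedModule.exists_of_eq (S := p.primeCompl) h0'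
  exact ⟨c.1, c.2, by rw [smul_zero] at hc; exact hc⟩

/-- Prime avoidance: an ideal not contained in any associated prime of a Noetherian module contains
a regular element. -/
theorem exists_isSMulRegular_mem (A : Type u) [AddCommGroup A] [Module R A] [Module.Finite R A]
    (ann : Ideal R) (h : ∀ p ∈ associatedPrimes R A, ¬ ann ≤ p) :
    ∃ s ∈ ann, IsSMulRegular A s := by
  classical
  by_contra hcon
  push Not at hcon
  have hfin : (associatedPrimes R A).Finite := associatedPrimes.finite R A
  have hsub : (ann : Set R) ⊆ ⋃ p ∈ (↑hfin.toFinset : Set (Ideal R)), id p := by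
    intro s hs
    have h1 := hcon s hs
    rw [isSMulRegular_iff_right_eq_zero_of_smul] at h1
    push Not at h1
    obtain ⟨x, hx0, hx⟩ := h1
    have : s ∈ ⋃ p ∈ associatedPrimes R A, (p : Set R) := by
      rw [biUnion_associatedPrimes_eq_zero_divisors]
      exact ⟨x, hx, hx0⟩
    simpa using this
  obtain ⟨p, hp, hle⟩ := (Ideal.subset_union_prime (⊤ : Ideal R) ⊤ (fun i hi _ _ => by
    have : i ∈ associatedPrimes R A := by simpa using hi
    exact (AssociatedPrimes.mem_iff.mp this).isPrime)).mp hsub
  exact h p (by simpa using hp) hle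

omit [IsNoetherianRing R] in
theorem lTensor_comm_apply (M : Type u) [AddCommGroup M] [Module R M]
    {N N' : Type u} [AddCommGroup N] [Module R N] [AddCommGroup N'] [Module R N']
    (ι : N →ₗ[R] N') (y : N ⊗[R] M) :
    ι.lTensor M (TensorProduct.comm R N M y) = TensorProduct.comm R N' M (ι.rTensor M y) := by
  induction y using TensorProduct.induction_on with
  | zero => simp
  | tmul n m => simp
  | add a b ha hb => simp only [map_add, ha, hb]

theorem main (J : Ideal R) (M : Type u) [AddCommGroup M] [Module R M]
    (hJ : ∀ (C : Type u) [CommRing C] [Algebra R C], J.map (algebraMap R C) = ⊥ →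
      Module.Flat C (C ⊗[R] M))
    (Ps : Set (Ideal R))
    (hPs : ∀ p ∈ Ps, ∃ _ : p.IsPrime, Module.Flat R (LocalizedModule p.primeCompl M)) :
    ∀ n : ℕ, ∀ (A : Type u) [CommRing A] [Algebra R A], Surjective (algebraMap R A) →
      (J.map (algebraMap R A)) ^ n = ⊥ → associatedPrimes R A ⊆ Ps →
      Module.Flat A (A ⊗[R] M) := by
  intro n
  induction n with
  | zero =>
    intro A _ _ _ h0 _
    rw [pow_zero, Ideal.one_eq_top] at h0
    have : Subsingleton A := (Submodule.subsingleton_iff A).mp (subsingleton_of_bot_eq_top h0.symm)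
    have : Subsingleton (A ⊗[R] M) := Module.subsingleton A _
    infer_instance
  | succ n ih =>
    intro A _ _ hsurj hpow hass
    have hAnoeth : IsNoetherianRing A := isNoetherianRing_of_surjective R A (algebraMap R A) hsurj
    have hAfin : Module.Finite R A := Module.Finite.of_surjective (Algebra.linearMap R A) hsurj
    set K : Ideal A := J.map (algebraMap R A) with hK
    let I' : Ideal A := Submodule.annihilator K
    have hKfg : K.FG := IsNoetherian.noetherian K
    have hflat' : Module.Flat (A ⧸ I') ((A ⧸ I') ⊗[R] M) := by
      apply ih (A ⧸ I')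
      · rw [IsScalarTower.algebraMap_eq R A (A ⧸ I')]
        exact (Ideal.Quotient.mk_surjective).comp hsurj
      · rw [IsScalarTower.algebraMap_eq R A (A ⧸ I'), ← Ideal.map_map, ← Ideal.map_pow,
          Ideal.Quotient.algebraMap_eq, Ideal.map_eq_bot_iff_le_ker, Ideal.mk_ker]
        intro a ha
        rw [Submodule.mem_annihilator]
        intro k hk
        have : a * k ∈ K ^ (n + 1) := by
          rw [pow_succ]; exact Ideal.mul_mem_mul ha hk
        rw [hpow] at this
        simpa using this
      · exact (associatedPrimes_quotient_annihilator_subset A K hKfg).trans hass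
    have : Module.Flat (A ⧸ K) ((A ⧸ K) ⊗[R] M) := by
      apply hJ (A ⧸ K)
      rw [IsScalarTower.algebraMap_eq R A (A ⧸ K), ← Ideal.map_map,
        Ideal.Quotient.algebraMap_eq, Ideal.map_quotient_self]
    have : Module.Flat (A ⧸ K) ((A ⧸ K) ⊗[A] (A ⊗[R] M)) :=
      Module.Flat.of_linearEquiv
        (TensorProduct.AlgebraTensorModule.cancelBaseChange R A (A ⧸ K) (A ⧸ K) M)
    apply flat_of_isNilpotent_of_tor1Zero K ⟨n + 1, hpow⟩
    rw [tor1Zero_quotient_iff, injective_iff_map_eq_zero]
    intro t ht
    let ι : K →ₗ[R] A := K.subtype.restrictScalars R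
    have hι : Injective ι := Submodule.injective_subtype K
    let eJ := TensorProduct.AlgebraTensorModule.cancelBaseChange R A A K M
    let eA := TensorProduct.AlgebraTensorModule.cancelBaseChange R A A A M
    have hnat : ∀ x, eA (K.subtype.rTensor (A ⊗[R] M) x) = ι.rTensor M (eJ x) := by
      intro x
      induction x using TensorProduct.induction_on with
      | zero => simp
      | tmul k y =>
        induction y using TensorProduct.induction_on with
        | zero => simp
        | tmul a m => simp [eJ, eA, ι]
        | add y z hy hz => simp only [TensorProduct.tmul_add, map_add, hy, hz]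
      | add x y hx hy => simp only [map_add, hx, hy]
    have hy : ι.rTensor M (eJ t) = 0 := by rw [← hnat, ht, map_zero]
    suffices h : eJ t = 0 by simpa using h
    set y := eJ t with hy_def
    -- the annihilator of `y`
    let ann : Ideal R := LinearMap.ker (LinearMap.toSpanSingleton R (K ⊗[R] M) y)
    have hann : ∀ p ∈ associatedPrimes R A, ¬ ann ≤ p := by
      intro p hp hle
      obtain ⟨hpp, hpflat⟩ := hPs p (hass hp)
      obtain ⟨s, hsp, hst⟩ := exists_smul_eq_zero_of_flat_localizedModule p M ι hι
        (TensorProduct.comm R K M y) (by rw [lTensor_comm_apply, hy, map_zero])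
      apply hsp
      apply hle
      rw [LinearMap.mem_ker, LinearMap.toSpanSingleton_apply]
      apply (TensorProduct.comm R K M).injective
      rw [map_smul, hst, map_zero]
    obtain ⟨s, hsann, hsreg⟩ := exists_isSMulRegular_mem A ann hann
    have hsK : IsSMulRegular K s := hsreg.of_injective ι hι
    have hTor : Module.IsTorsionBySet A K I' := by
      intro k a
      apply Subtype.ext
      have := Submodule.mem_annihilator.mp a.2 k.1 k.2
      simpa using this
    let _ : Module (A ⧸ I') K := hTor.module
    have : IsScalarTower R (A ⧸ I') K := hTor.isScalarTower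
    have hreg := isSMulRegular_tensor (R := R) (A ⧸ I') K M s hsK
    apply hreg
    have := hsann
    rw [LinearMap.mem_ker, LinearMap.toSpanSingleton_apply] at this
    change s • y = s • 0
    rw [smul_zero]
    exact this

end Ass

end Groth.Agent.H70.FlatAss
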