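import Groth.Agent.H70.FC.FlatPow
import Groth.Agent.H70.FlatAss.Basic
import Mathlib.RingTheory.AdicCompletion.Basic

/-!
# The local criterion of flatness for ideally separated modules over a Noetherian ring (helper70)
-/

set_option autoImplicit false
universe u
open scoped TensorProduct
open Function (Injective Surjective Exact)

namespace Groth.Agent.H70.FlatAss

open Groth.Agent.H70.FC.T1 Groth.Agent.H70.FC.FP

variable {R M : Type u} [CommRing R] [AddCommGroup M] [Module R M]

/-- Flatness from a weak form of flatness modulo all powers of `I`, for ideally separated modules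
(Artin–Rees). -/
theorem flat_of_lTensor_injective_quotient_pow_of_sep [IsNoetherianRing R] (I : Ideal R)
    (hsep : ∀ J : Ideal R, ∀ x : M ⊗[R] J,
      (∀ n : ℕ, x ∈ (I ^ n • ⊤ : Submodule R (M ⊗[R] J))) → x = 0)
    (h : ∀ n : ℕ, 0 < n → ∀ Jbar : Ideal (R ⧸ I ^ n),
      Injective (((Submodule.subtype Jbar).restrictScalars R).lTensor M)) : Module.Flat R M := by
  rw [Module.Flat.iff_lTensor_injective']
  intro J
  rw [injective_iff_map_eq_zero]
  intro x hx
  apply hsep J x
  intro n
  -- Artin–Rees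
  obtain ⟨c, hc⟩ := Ideal.exists_pow_inf_eq_pow_smul I (J : Submodule R R)
  set k := n + c + 1 with hk_def
  have hkpos : 0 < k := by omega
  have hk : I ^ k ⊓ J ≤ I ^ n • J := by
    have h1 := hc k (by omega)
    have h2 : I ^ k ⊓ J = I ^ k • (⊤ : Submodule R R) ⊓ J := by
      rw [show I ^ k • (⊤ : Submodule R R) = I ^ k from by
        rw [Ideal.smul_eq_mul, Ideal.mul_top]]
    rw [h2, h1]
    calc I ^ (k - c) • (I ^ c • (⊤ : Submodule R R) ⊓ J) ≤ I ^ (k - c) • J :=
          Submodule.smul_mono le_rfl inf_le_right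
      _ ≤ I ^ n • J := Submodule.smul_mono_left (Ideal.pow_le_pow_right (by omega))
  -- flatness over `A = R / I^k`
  let A := R ⧸ I ^ k
  let Jbar : Ideal A := J.map (Ideal.Quotient.mk (I ^ k))
  let π : J →ₗ[R] Jbar :=
    { toFun := fun j => ⟨Ideal.Quotient.mk (I ^ k) j, Ideal.mem_map_of_mem _ j.2⟩
      map_add' := fun a b => by ext; simp
      map_smul' := fun r a => by
        ext
        simp only [SetLike.val_smul, smul_eq_mul, map_mul, RingHom.id_apply]
        rfl }
  let g : Jbar →ₗ[A] A := Submodule.subtype Jbar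
  have hg : Injective g := Submodule.injective_subtype Jbar
  have hG : Injective ((g.restrictScalars R).lTensor M) := h k hkpos Jbar
  let q : R →ₗ[R] A := (Ideal.Quotient.mkₐ R (I ^ k)).toLinearMap
  have hsq : (g.restrictScalars R) ∘ₗ π = q ∘ₗ J.subtype := by
    ext j
    rfl
  have hπx : π.lTensor M x = 0 := by
    apply hG
    rw [map_zero, ← LinearMap.comp_apply, ← LinearMap.lTensor_comp, hsq, LinearMap.lTensor_comp,
      LinearMap.comp_apply, hx, map_zero]
  -- exactness
  let ι : (I ^ k ⊓ J : Ideal R) →ₗ[R] J := Submodule.inclusion inf_le_right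
  have hex : Exact ι π := by
    intro j
    constructor
    · intro hj
      have : Ideal.Quotient.mk (I ^ k) (j : R) = 0 := congrArg Subtype.val hj
      rw [Ideal.Quotient.eq_zero_iff_mem] at this
      exact ⟨⟨j, ⟨this, j.2⟩⟩, rfl⟩
    · rintro ⟨y, rfl⟩
      apply Subtype.ext
      change Ideal.Quotient.mk (I ^ k) (y : R) = 0
      rw [Ideal.Quotient.eq_zero_iff_mem]
      exact y.2.1
  have hπsurj : Surjective π := by
    rintro ⟨a, ha⟩
    obtain ⟨j, hj, rfl⟩ := (Ideal.mem_map_iff_of_surjective _ Ideal.Quotient.mk_surjective).mp ha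
    exact ⟨⟨j, hj⟩, rfl⟩
  obtain ⟨y, rfl⟩ := (lTensor_exact M hex hπsurj x).mp hπx
  have := lTensor_inclusion_mem_smul_top (S := R) I n J (I ^ k ⊓ J) hk inf_le_right y
  rwa [Algebra.algebraMap_self, Ideal.map_id] at this

/-- Bourbaki's local criterion, `(d) ⇒ (a)`: an ideally separated module over a Noetherian ring is
flat as soon as all its reductions modulo `I ^ n` are. -/
theorem flat_of_flat_quotient_pow_of_isHausdorff [IsNoetherianRing R] (I : Ideal R)
    (hsep : ∀ J : Ideal R, IsHausdorff I (↥J ⊗[R] M))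
    (h : ∀ n : ℕ, 0 < n → Module.Flat (R ⧸ I ^ n) ((R ⧸ I ^ n) ⊗[R] M)) : Module.Flat R M := by
  refine flat_of_lTensor_injective_quotient_pow_of_sep I ?_ ?_
  · intro J x hx
    have h0 : (TensorProduct.comm R M J) x = 0 := by
      apply (hsep J).haus'
      intro n
      rw [SModEq.zero]
      have h1 : (I ^ n • ⊤ : Submodule R (↥J ⊗[R] M)) =
          Submodule.map (TensorProduct.comm R M J).toLinearMap (I ^ n • ⊤) := by
        rw [Submodule.map_smul'', Submodule.map_top, LinearEquiv.range]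
      rw [h1]
      exact Submodule.mem_map_of_mem (hx n)
    simpa using h0
  · intro n hn Jbar
    have := h n hn
    exact lTensor_injective_of_algebra_flat (R ⧸ I ^ n) (Submodule.subtype Jbar)
      (Submodule.injective_subtype Jbar)

/-- If `M / I M` is flat over `R / I`, then `C ⊗ M` is flat over every `R`-algebra `C` killed by
`I`. -/
theorem flat_of_map_eq_bot (I : Ideal R) [Module.Flat (R ⧸ I) ((R ⧸ I) ⊗[R] M)]
    (C : Type u) [CommRing C] [Algebra R C] (hC : I.map (algebraMap R C) = ⊥) :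
    Module.Flat C (C ⊗[R] M) := by
  letI : Algebra (R ⧸ I) C := (Ideal.Quotient.lift I (algebraMap R C) (fun a ha => by
    have : algebraMap R C a ∈ I.map (algebraMap R C) := Ideal.mem_map_of_mem _ ha
    rw [hC] at this
    simpa using this)).toAlgebra
  haveI : IsScalarTower R (R ⧸ I) C := IsScalarTower.of_algebraMap_eq (fun x => rfl)
  exact flat_baseChange_of_tower (R ⧸ I) C M

/-- The nilpotent criterion `FlatAss.main` for a quotient `R ⧸ Q` with `J ^ n ≤ Q`. -/
theorem flat_quotient_of_pow_le [IsNoetherianRing R] (J : Ideal R)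
    [Module.Flat (R ⧸ J) ((R ⧸ J) ⊗[R] M)] (Ps : Set (Ideal R))
    (hPs : ∀ p ∈ Ps, ∃ _ : p.IsPrime, Module.Flat R (LocalizedModule p.primeCompl M))
    (Q : Ideal R) (n : ℕ) (hQ : J ^ n ≤ Q) (hass : associatedPrimes R (R ⧸ Q) ⊆ Ps) :
    Module.Flat (R ⧸ Q) ((R ⧸ Q) ⊗[R] M) := by
  refine main J M (fun C _ _ hC => flat_of_map_eq_bot J C hC) Ps hPs n (R ⧸ Q)
    Ideal.Quotient.mk_surjective ?_ hass
  rw [Ideal.Quotient.algebraMap_eq, ← Ideal.map_pow, Ideal.map_eq_bot_iff_le_ker, Ideal.mk_ker]
  exact hQ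

/-- An associated prime of `R ⧸ ⨅ i, Q i` (finite intersection) is associated to some `R ⧸ Q i`. -/
theorem exists_mem_associatedPrimes_of_iInf [IsNoetherianRing R] {ι : Type*} [Finite ι]
    (Q : ι → Ideal R) {P : Ideal R} (hP : P ∈ associatedPrimes R (R ⧸ ⨅ i, Q i)) :
    ∃ i, P ∈ associatedPrimes R (R ⧸ Q i) := by
  classical
  haveI := Fintype.ofFinite ι
  rw [AssociatedPrimes.mem_iff, isAssociatedPrime_iff] at hP
  obtain ⟨hPp, xb, hx⟩ := hP
  obtain ⟨x, rfl⟩ := Ideal.Quotient.mk_surjective xb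
  have hmem : ∀ a : R, a ∈ P ↔ ∀ i, a • (Ideal.Quotient.mk (Q i) x) = 0 := by
    intro a
    rw [hx, Submodule.mem_colon_singleton, Submodule.mem_bot]
    have h1 : a • (Ideal.Quotient.mk (⨅ i, Q i) x) = Ideal.Quotient.mk _ (a • x) := rfl
    rw [h1, Ideal.Quotient.eq_zero_iff_mem, Submodule.mem_iInf]
    refine forall_congr' fun i => ?_
    have h2 : a • (Ideal.Quotient.mk (Q i) x) = Ideal.Quotient.mk _ (a • x) := rfl
    rw [h2, Ideal.Quotient.eq_zero_iff_mem]
  have hP_eq : P = Finset.univ.inf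
      (fun i => (⊥ : Submodule R (R ⧸ Q i)).colon {Ideal.Quotient.mk (Q i) x}) := by
    ext a
    rw [hmem, Submodule.mem_finsetInf]
    simp only [Submodule.mem_colon_singleton, Submodule.mem_bot, Finset.mem_univ, true_imp_iff]
  obtain ⟨i, _, hle⟩ := hPp.inf_le'.mp hP_eq.ge
  refine ⟨i, ?_⟩
  rw [AssociatedPrimes.mem_iff, isAssociatedPrime_iff]
  exact ⟨hPp, Ideal.Quotient.mk (Q i) x,
    le_antisymm (hP_eq.le.trans (Finset.inf_le (Finset.mem_univ i))) hle⟩

/-- The only possible associated prime of `R ⧸ p^(m)` is `p`. -/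
theorem eq_of_mem_associatedPrimes_symbolicPower [IsNoetherianRing R] (p : Ideal R) [p.IsPrime]
    (m : ℕ) {P : Ideal R}
    (hP : P ∈ associatedPrimes R (R ⧸ Ideal.comap (algebraMap R (Localization.AtPrime p))
      (IsLocalRing.maximalIdeal (Localization.AtPrime p) ^ m))) : P = p := by
  rcases Nat.eq_zero_or_pos m with rfl | hm
  · exfalso
    rw [pow_zero, Ideal.one_eq_top, Ideal.comap_top] at hP
    rw [AssociatedPrimes.mem_iff, isAssociatedPrime_iff] at hP
    obtain ⟨hPp, xb, hx⟩ := hP
    apply hPp.ne_top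
    rw [hx, Ideal.eq_top_iff_one, Submodule.mem_colon_singleton, Submodule.mem_bot]
    exact Subsingleton.elim _ _
  · have hprim : (IsLocalRing.maximalIdeal (Localization.AtPrime p) ^ m).IsPrimary := by
      apply Ideal.isPrimary_of_isMaximal_radical
      rw [Ideal.radical_pow _ hm.ne', (IsLocalRing.maximalIdeal.isMaximal _).isPrime.radical]
      exact IsLocalRing.maximalIdeal.isMaximal _
    have h := (AssociatedPrimes.mem_iff.mp hP).eq_radical
      (hprim.comap (algebraMap R (Localization.AtPrime p)))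
    rw [h, ← Ideal.comap_radical, Ideal.radical_pow _ hm.ne',
      (IsLocalRing.maximalIdeal.isMaximal _).isPrime.radical]
    exact IsLocalization.AtPrime.under_maximalIdeal (Localization.AtPrime p) p

end Groth.Agent.H70.FlatAss
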