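import Groth.Agent.H70.FC.FlatPow
import Groth.Agent.H70.FlatAss.Separated
import Mathlib.RingTheory.LocalRing.ResidueField.Basic
import Mathlib.RingTheory.Ideal.Quotient.Operations

/-!
# Flatness from flatness off `V(J)` and `J`-depth of the closed fibre (helper70)
-/

set_option autoImplicit false
universe u
open scoped TensorProduct
open Function (Injective Surjective Exact)

namespace Groth.Agent.H70.FlatAss

open Groth.Agent.H70.FC.T1 Groth.Agent.H70.FC.FP

section Criterion

variable {R : Type u} [CommRing R]

/-- The nilpotent local criterion in "kernel" form, for a quotient `A` of `R`. -/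
theorem flat_of_rTensor_ker (M : Type u) [AddCommGroup M] [Module R M]
    (A : Type u) [CommRing A] [Algebra R A] (K : Ideal A) (hK : IsNilpotent K)
    [Module.Flat (A ⧸ K) ((A ⧸ K) ⊗[R] M)]
    (hker : ∀ y : K ⊗[R] M, (K.subtype.restrictScalars R).rTensor M y = 0 → y = 0) :
    Module.Flat A (A ⊗[R] M) := by
  have : Module.Flat (A ⧸ K) ((A ⧸ K) ⊗[A] (A ⊗[R] M)) :=
    Module.Flat.of_linearEquiv
      (TensorProduct.AlgebraTensorModule.cancelBaseChange R A (A ⧸ K) (A ⧸ K) M)
  apply flat_of_isNilpotent_of_tor1Zero K hK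
  rw [tor1Zero_quotient_iff, injective_iff_map_eq_zero]
  intro t ht
  let ι : K →ₗ[R] A := K.subtype.restrictScalars R
  let eJ := TensorProduct.AlgebraTensorModule.cancelBaseChange R A A K M
  let eA := TensorProduct.AlgebraTensorModule.cancelBaseChange R A A A M
  have hnat : ∀ x, eA (K.subtype.rTensor (A ⊗[R] M) x) = ι.rTensor M (eJ x) := by
    intro x
    induction x using TensorProduct.induction_on with
    | zero => simp
    | tmul k y =>
      induction y using TensorProduct.induction_on with
      | zero => simp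
      | tmul a m => simp [eJ, eA, ι]
      | add y z hy hz => simp only [TensorProduct.tmul_add, map_add, hy, hz]
    | add x y hx hy => simp only [map_add, hx, hy]
  have hy : ι.rTensor M (eJ t) = 0 := by rw [← hnat, ht, map_zero]
  have := hker (eJ t) hy
  simpa using this

end Criterion

section Relative

variable {A B : Type u} [CommRing A] [CommRing B] [Algebra A B]
  (M : Type u) [AddCommGroup M] [Module B M] [Module A M] [IsScalarTower A B M]

/-- Step 1: if `M_q` is `A`-flat, elements of `ker (M ⊗ N → M ⊗ N')` are killed by some `s ∉ q`. -/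
theorem exists_smul_eq_zero_of_flatAt (q : Ideal B) [q.IsPrime]
    [Module.Flat A (LocalizedModule q.primeCompl M)]
    {N N' : Type u} [AddCommGroup N] [Module A N] [AddCommGroup N'] [Module A N']
    (ι : N →ₗ[A] N') (hι : Injective ι) (t : M ⊗[A] N) (ht : ι.lTensor M t = 0) :
    ∃ s : B, s ∉ q ∧ s • t = 0 := by
  let g := LocalizedModule.mkLinearMap q.primeCompl M
  have hinj : Injective (ι.lTensor (LocalizedModule q.primeCompl M)) :=
    Module.Flat.lTensor_preserves_injective_linearMap ι hι
  have h0 : (TensorProduct.AlgebraTensorModule.rTensor A N g) t = 0 := by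
    apply hinj
    have h1 : ∀ z : M ⊗[A] N, ι.lTensor (LocalizedModule q.primeCompl M)
        ((TensorProduct.AlgebraTensorModule.rTensor A N g) z) =
        (TensorProduct.AlgebraTensorModule.rTensor A N' g) (ι.lTensor M z) := by
      intro z
      induction z using TensorProduct.induction_on with
      | zero => simp
      | tmul m n => simp
      | add a b ha hb => simp only [map_add, ha, hb]
    rw [h1, ht, map_zero, map_zero]
  have inst : IsLocalizedModule q.primeCompl
      (TensorProduct.AlgebraTensorModule.rTensor A N g) := inferInstance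
  have h0' : (TensorProduct.AlgebraTensorModule.rTensor A N g) t =
      (TensorProduct.AlgebraTensorModule.rTensor A N g) 0 := by
    rw [map_zero]; exact h0
  obtain ⟨c, hc⟩ := IsLocalizedModule.exists_of_eq (S := q.primeCompl) h0'
  exact ⟨c.1, c.2, by rw [smul_zero] at hc; exact hc⟩

/-- Step 2: if `M` is `A`-flat at all primes not containing `J`, elements of
`ker (M ⊗ N → M ⊗ N')` are killed by a power of any `x ∈ J`. -/
theorem exists_pow_smul_eq_zero_of_flatAt_off (J : Ideal B)
    (hU : ∀ q : PrimeSpectrum B, ¬ J ≤ q.asIdeal →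
      Module.Flat A (LocalizedModule q.asIdeal.primeCompl M))
    {N N' : Type u} [AddCommGroup N] [Module A N] [AddCommGroup N'] [Module A N']
    (ι : N →ₗ[A] N') (hι : Injective ι) (t : M ⊗[A] N) (ht : ι.lTensor M t = 0)
    (x : B) (hx : x ∈ J) : ∃ k : ℕ, x ^ k • t = 0 := by
  let ann : Ideal B := LinearMap.ker (LinearMap.toSpanSingleton B (M ⊗[A] N) t)
  have hmem : ∀ b : B, b ∈ ann ↔ b • t = 0 := by
    intro b
    rw [LinearMap.mem_ker, LinearMap.toSpanSingleton_apply]
  have hrad : x ∈ ann.radical := by
    rw [Ideal.radical_eq_sInf, Submodule.mem_sInf]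
    rintro q ⟨hle, hq⟩
    by_contra hxq
    have hJq : ¬ J ≤ q := fun h => hxq (h hx)
    have := hU ⟨q, hq⟩ hJq
    obtain ⟨s, hsq, hst⟩ := exists_smul_eq_zero_of_flatAt M q ι hι t ht
    exact hsq (hle ((hmem s).mpr hst))
  obtain ⟨k, hk⟩ := hrad
  exact ⟨k, (hmem _).mp hk⟩

end Relative

section Fibre

/-- If `μ ⊗ A/m` is injective (`m` maximal) then `μ ⊗ N` is injective for every `N` killed by
`m`. -/
theorem lTensor_injective_of_killed {A : Type u} [CommRing A] (m : Ideal A) [hm : m.IsMaximal]
    (M : Type u) [AddCommGroup M] [Module A M] (μ : M →ₗ[A] M)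
    (hμ : Injective (μ.lTensor (A ⧸ m))) (N : Type u) [AddCommGroup N] [Module A N]
    (hN : ∀ a ∈ m, ∀ n : N, a • n = 0) : Injective (μ.lTensor N) := by
  have hTor : Module.IsTorsionBySet A N m := fun n a => hN a.1 a.2 n
  letI : Module (A ⧸ m) N := hTor.module
  haveI : IsScalarTower A (A ⧸ m) N := hTor.isScalarTower
  letI : Field (A ⧸ m) := Ideal.Quotient.field m
  let μ' : (A ⧸ m) ⊗[A] M →ₗ[A ⧸ m] (A ⧸ m) ⊗[A] M := μ.baseChange (A ⧸ m)
  have hμ' : Injective μ' := by
    have : (μ' : (A ⧸ m) ⊗[A] M → (A ⧸ m) ⊗[A] M) = μ.lTensor (A ⧸ m) := by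
      ext z; simp [μ', LinearMap.baseChange_eq_ltensor]
    rw [this]; exact hμ
  have key : Injective (μ'.lTensor N) :=
    Module.Flat.lTensor_preserves_injective_linearMap μ' hμ'
  let e := TensorProduct.AlgebraTensorModule.cancelBaseChange A (A ⧸ m) (A ⧸ m) N M
  have hcomm : ∀ z, μ.lTensor N (e z) = e (μ'.lTensor N z) := by
    intro z
    induction z using TensorProduct.induction_on with
    | zero => simp
    | tmul n y =>
      induction y using TensorProduct.induction_on with
      | zero => simp
      | tmul a k => simp [e, μ']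
      | add y z hy hz => simp only [TensorProduct.tmul_add, map_add, hy, hz]
    | add x y hx hy => simp only [map_add, hx, hy]
  intro x y hxy
  obtain ⟨x', rfl⟩ := e.surjective x
  obtain ⟨y', rfl⟩ := e.surjective y
  rw [hcomm, hcomm] at hxy
  rw [key (e.injective hxy)]

/-- Regularity of `x` on the fibre `M / mB M` gives injectivity of `x ⊗ A/m`. -/
theorem lTensor_quotient_injective_of_isSMulRegular {A B : Type u} [CommRing A] [CommRing B]
    [Algebra A B] (m : Ideal A) (M : Type u) [AddCommGroup M] [Module B M] [Module A M]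
    [IsScalarTower A B M] (x : B)
    (hx : IsSMulRegular (M ⧸ (m.map (algebraMap A B) • (⊤ : Submodule B M))) x) :
    Injective (((LinearMap.lsmul B M x).restrictScalars A).lTensor (A ⧸ m)) := by
  let P : Submodule B M := m.map (algebraMap A B) • (⊤ : Submodule B M)
  have hP : (m • (⊤ : Submodule A M)) = P.restrictScalars A := by
    rw [Ideal.smul_restrictScalars, Submodule.restrictScalars_top]
  let e₁ := TensorProduct.quotTensorEquivQuotSMul M m
  let e₂ := Submodule.quotEquivOfEq _ _ hP
  let e₃ := Submodule.Quotient.restrictScalarsEquiv A P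
  let φ : (A ⧸ m) ⊗[A] M ≃ₗ[A] (M ⧸ P) := e₁ ≪≫ₗ e₂ ≪≫ₗ e₃
  have hφ : ∀ z, φ (((LinearMap.lsmul B M x).restrictScalars A).lTensor (A ⧸ m) z) = x • φ z := by
    intro z
    induction z using TensorProduct.induction_on with
    | zero => simp
    | tmul a y =>
      obtain ⟨a, rfl⟩ := Ideal.Quotient.mk_surjective a
      simp only [LinearMap.lTensor_tmul, LinearMap.restrictScalars_apply, LinearMap.lsmul_apply, φ,
        LinearEquiv.trans_apply, e₁, TensorProduct.quotTensorEquivQuotSMul_mk_tmul, e₂, e₃,
        Submodule.quotEquivOfEq_mk, Submodule.Quotient.restrictScalarsEquiv_mk]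
      rw [← Submodule.Quotient.mk_smul, smul_comm]
    | add a b ha hb => simp only [map_add, ha, hb, smul_add]
  intro z w hzw
  apply φ.injective
  apply hx
  change x • φ z = x • φ w
  rw [← hφ, ← hφ, hzw]

end Fibre

section Main

open IsLocalRing

variable {A B : Type u} [CommRing A] [CommRing B] [Algebra A B] [IsLocalRing A]
  (M : Type u) [AddCommGroup M] [Module B M] [Module A M] [IsScalarTower A B M]

theorem flat_quotient_pow_of_flatAt_off (J : Ideal B)
    (hU : ∀ q : PrimeSpectrum B, ¬ J ≤ q.asIdeal →
      Module.Flat A (LocalizedModule q.asIdeal.primeCompl M))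
    (x : B) (hxJ : x ∈ J)
    (hx : IsSMulRegular
      (M ⧸ ((maximalIdeal A).map (algebraMap A B) • (⊤ : Submodule B M))) x) :
    ∀ n : ℕ, Module.Flat (A ⧸ maximalIdeal A ^ n) ((A ⧸ maximalIdeal A ^ n) ⊗[A] M) := by
  intro n
  induction n with
  | zero =>
    have h0 : maximalIdeal A ^ 0 = ⊤ := by rw [pow_zero, Ideal.one_eq_top]
    have : Subsingleton (A ⧸ maximalIdeal A ^ 0) := Ideal.Quotient.subsingleton_iff.mpr h0
    have : Subsingleton ((A ⧸ maximalIdeal A ^ 0) ⊗[A] M) :=
      Module.subsingleton (A ⧸ maximalIdeal A ^ 0) _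
    infer_instance
  | succ n ih =>
    rcases Nat.eq_zero_or_pos n with rfl | hn
    · have : (maximalIdeal A ^ (0 + 1)).IsMaximal := by
        rw [zero_add, pow_one]; infer_instance
      letI : Field (A ⧸ maximalIdeal A ^ (0 + 1)) := Ideal.Quotient.field _
      infer_instance
    · set m := maximalIdeal A with hm
      let A' := A ⧸ m ^ (n + 1)
      let K : Ideal A' := (m ^ n).map (Ideal.Quotient.mk (m ^ (n + 1)))
      have hK2 : K ^ 2 = ⊥ := by
        rw [← Ideal.map_pow, Ideal.map_eq_bot_iff_le_ker, Ideal.mk_ker, ← pow_mul]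
        exact Ideal.pow_le_pow_right (by omega)
      have hflatK : Module.Flat (A' ⧸ K) ((A' ⧸ K) ⊗[A] M) := by
        apply flat_of_map_eq_bot (m ^ n) (A' ⧸ K)
        rw [IsScalarTower.algebraMap_eq A A' (A' ⧸ K), ← Ideal.map_map,
          Ideal.Quotient.algebraMap_eq, Ideal.Quotient.algebraMap_eq, Ideal.map_quotient_self]
      refine flat_of_rTensor_ker M A' K ⟨2, hK2⟩ ?_
      intro y hy
      let ι : K →ₗ[A] A' := K.subtype.restrictScalars A
      have hι : Injective ι := Submodule.injective_subtype K
      have ht' : ι.lTensor M (TensorProduct.comm A K M y) = 0 := by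
        rw [lTensor_comm_apply, hy, map_zero]
      obtain ⟨j, hj⟩ := exists_pow_smul_eq_zero_of_flatAt_off M J hU ι hι
        (TensorProduct.comm A K M y) ht' x hxJ
      let μ : M →ₗ[A] M := (LinearMap.lsmul B M (x ^ j)).restrictScalars A
      have hkill : ∀ a ∈ m, ∀ k : K, a • k = 0 := by
        rintro a ha ⟨k, hk⟩
        obtain ⟨b, hb, rfl⟩ :=
          (Ideal.mem_map_iff_of_surjective _ Ideal.Quotient.mk_surjective).mp hk
        apply Subtype.ext
        change a • (Ideal.Quotient.mk (m ^ (n + 1)) b) = 0
        have h1 : a • (Ideal.Quotient.mk (m ^ (n + 1)) b) =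
            Ideal.Quotient.mk (m ^ (n + 1)) (a * b) := rfl
        rw [h1, Ideal.Quotient.eq_zero_iff_mem, pow_succ']
        exact Ideal.mul_mem_mul ha hb
      have hμinj : Injective (μ.lTensor K) :=
        lTensor_injective_of_killed m M μ
          (lTensor_quotient_injective_of_isSMulRegular m M (x ^ j) (hx.pow j)) K hkill
      have hμy : ∀ z : K ⊗[A] M,
          TensorProduct.comm A K M (μ.lTensor K z) = x ^ j • TensorProduct.comm A K M z := by
        intro z
        induction z using TensorProduct.induction_on with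
        | zero => simp
        | tmul k w => simp [μ, TensorProduct.smul_tmul']
        | add a b ha hb => simp only [map_add, ha, hb, smul_add]
      apply hμinj
      apply (TensorProduct.comm A K M).injective
      rw [hμy, hj, map_zero, map_zero]

theorem flat_of_flatAt_off_of_isSMulRegular [IsNoetherianRing A] [IsNoetherianRing B]
    [IsLocalRing B] [IsLocalHom (algebraMap A B)] [Module.Finite B M] (J : Ideal B)
    (hU : ∀ q : PrimeSpectrum B, ¬ J ≤ q.asIdeal →
      Module.Flat A (LocalizedModule q.asIdeal.primeCompl M))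
    (x : B) (hxJ : x ∈ J)
    (hx : IsSMulRegular
      (M ⧸ ((maximalIdeal A).map (algebraMap A B) • (⊤ : Submodule B M))) x) :
    Module.Flat A M := by
  refine flat_of_flat_quotient_pow (S := B) (maximalIdeal A) ?_
    (fun n _ => flat_quotient_pow_of_flatAt_off M J hU x hxJ hx n)
  rw [IsLocalRing.jacobson_eq_maximalIdeal ⊥ bot_ne_top]
  exact IsLocalRing.map_maximalIdeal_le (algebraMap A B)

end Main

end Groth.Agent.H70.FlatAss
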