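import Groth.Agent.H70.FlatAss.Separated
import Mathlib.RingTheory.HopkinsLevitzki
import Mathlib.RingTheory.AdicCompletion.Basic
import Mathlib.RingTheory.Filtration
import Mathlib.RingTheory.Ideal.Quotient.Noetherian

/-!
# Smallest flattening ideal over a complete Noetherian local ring (helper70)
-/

set_option autoImplicit false
universe u
open scoped TensorProduct
open Function (Injective Surjective Exact)

namespace Groth.Agent.H70.FlatAss

open Groth.Agent.H70.FC.T1 Groth.Agent.H70.FC.FP IsLocalRing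

section Abstract

variable {R : Type u} [CommRing R] [IsLocalRing R] [IsNoetherianRing R]

/-- Among ideals containing `m ^ (k + 1)` and satisfying an intersection-stable property there is a
smallest one. -/
theorem exists_smallest_of_pow_le (P : Ideal R → Prop)
    (hinf : ∀ J₁ J₂, P J₁ → P J₂ → P (J₁ ⊓ J₂)) (hm : P (maximalIdeal R)) (k : ℕ) :
    ∃ I : Ideal R, maximalIdeal R ^ (k + 1) ≤ I ∧ P I ∧
      ∀ J, maximalIdeal R ^ (k + 1) ≤ J → P J → I ≤ J := by
  set 𝔪 := maximalIdeal R with h𝔪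
  have hne : 𝔪 ^ (k + 1) ≠ ⊤ := by
    intro h
    have : 𝔪 ^ (k + 1) ≤ 𝔪 := Ideal.pow_le_self (Nat.succ_ne_zero k)
    rw [h] at this
    exact (maximalIdeal.isMaximal R).ne_top (top_le_iff.mp this)
  haveI : Nontrivial (R ⧸ 𝔪 ^ (k + 1)) := Ideal.Quotient.nontrivial_iff.mpr hne
  haveI : IsLocalRing (R ⧸ 𝔪 ^ (k + 1)) :=
    IsLocalRing.of_surjective' (Ideal.Quotient.mk (𝔪 ^ (k + 1))) Ideal.Quotient.mk_surjective
  haveI hart : IsArtinianRing (R ⧸ 𝔪 ^ (k + 1)) := by
    rw [isArtinianRing_iff_isNilpotent_maximalIdeal]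
    refine ⟨k + 1, ?_⟩
    have hmax : maximalIdeal (R ⧸ 𝔪 ^ (k + 1)) = 𝔪.map (Ideal.Quotient.mk (𝔪 ^ (k + 1))) := by
      apply le_antisymm
      · intro x hx
        obtain ⟨y, rfl⟩ := Ideal.Quotient.mk_surjective x
        apply Ideal.mem_map_of_mem
        rw [h𝔪, mem_maximalIdeal, mem_nonunits_iff] at *
        intro hy
        exact hx (hy.map _)
      · apply IsLocalRing.le_maximalIdeal
        intro h
        have h1 : (1 : R ⧸ 𝔪 ^ (k + 1)) ∈ 𝔪.map (Ideal.Quotient.mk (𝔪 ^ (k + 1))) := by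
          rw [h]; trivial
        obtain ⟨y, hy, hy1⟩ :=
          (Ideal.mem_map_iff_of_surjective _ Ideal.Quotient.mk_surjective).mp h1
        have h2 : y - 1 ∈ 𝔪 ^ (k + 1) := by
          rw [← Ideal.Quotient.eq_zero_iff_mem, map_sub, hy1, map_one, sub_self]
        have h3 : y - 1 ∈ 𝔪 := Ideal.pow_le_self (Nat.succ_ne_zero k) h2
        have h4 : (1 : R) ∈ 𝔪 := by
          have := 𝔪.sub_mem hy h3
          rwa [sub_sub_cancel] at this
        exact (maximalIdeal.isMaximal R).ne_top ((Ideal.eq_top_iff_one _).mpr h4)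
    rw [hmax, ← Ideal.map_pow, Ideal.zero_eq_bot, Ideal.map_eq_bot_iff_le_ker, Ideal.mk_ker]
  let π := Ideal.Quotient.mk (𝔪 ^ (k + 1))
  let s : Set (Ideal (R ⧸ 𝔪 ^ (k + 1))) := {K | P (K.comap π)}
  have hcomap_map : ∀ J : Ideal R, 𝔪 ^ (k + 1) ≤ J → (J.map π).comap π = J := by
    intro J hJ
    rw [Ideal.comap_map_of_surjective π Ideal.Quotient.mk_surjective, ← RingHom.ker_eq_comap_bot,
      Ideal.mk_ker, sup_eq_left.mpr hJ]
  have hs : s.Nonempty := ⟨𝔪.map π, by
    change P ((𝔪.map π).comap π)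
    rw [hcomap_map 𝔪 (Ideal.pow_le_self (Nat.succ_ne_zero k))]
    exact hm⟩
  obtain ⟨K₀, hK₀, hmin⟩ := wellFounded_lt.has_min s hs
  refine ⟨K₀.comap π, ?_, hK₀, ?_⟩
  · intro x hx
    rw [Ideal.mem_comap]
    have : π x = 0 := Ideal.Quotient.eq_zero_iff_mem.mpr hx
    rw [this]
    exact K₀.zero_mem
  · intro J hJ hPJ
    have hK : J.map π ∈ s := by
      change P ((J.map π).comap π)
      rw [hcomap_map J hJ]; exact hPJ
    have hKK : K₀ ⊓ J.map π ∈ s := by
      change P ((K₀ ⊓ J.map π).comap π)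
      rw [Ideal.comap_inf]
      exact hinf _ _ hK₀ hK
    have hle : K₀ ⊓ J.map π = K₀ := by
      by_contra hne
      exact hmin _ hKK (lt_of_le_of_ne inf_le_left hne)
    have hK₀le : K₀ ≤ J.map π := by rw [← hle]; exact inf_le_right
    calc K₀.comap π ≤ (J.map π).comap π := Ideal.comap_mono hK₀le
      _ = J := hcomap_map J hJ

/-- Completeness argument: a decreasing chain of ideals `I k ⊇ m ^ (k+1)` with
`I k ≤ I (k+1) ⊔ m ^ (k+1)` satisfies `I k ≤ (⨅ j, I j) ⊔ m ^ (k+1)`. -/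
theorem le_iInf_sup_pow_of_chain [IsAdicComplete (maximalIdeal R) R] (I : ℕ → Ideal R)
    (hpow : ∀ k, maximalIdeal R ^ (k + 1) ≤ I k)
    (hanti : ∀ k, I (k + 1) ≤ I k)
    (hstep : ∀ k, I k ≤ I (k + 1) ⊔ maximalIdeal R ^ (k + 1)) (k₀ : ℕ) :
    I k₀ ≤ (⨅ j, I j) ⊔ maximalIdeal R ^ (k₀ + 1) := by
  set 𝔪 := maximalIdeal R with h𝔪
  intro x hx
  have hanti' : ∀ a b, a ≤ b → I b ≤ I a := by
    intro a b hab
    induction hab with
    | refl => exact le_rfl
    | step _ ih => exact le_trans (hanti _) ih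
  -- one step of the construction
  have step : ∀ (j : ℕ) (y : {y : R // y ∈ I (k₀ + j)}),
      ∃ y' : {y : R // y ∈ I (k₀ + (j + 1))}, y.1 - y'.1 ∈ 𝔪 ^ (k₀ + j + 1) := by
    rintro j ⟨y, hy⟩
    obtain ⟨y', hy', c, hc, hyc⟩ := Submodule.mem_sup.mp (hstep (k₀ + j) hy)
    refine ⟨⟨y', hy'⟩, ?_⟩
    change y - y' ∈ 𝔪 ^ (k₀ + j + 1)
    rw [← hyc, add_sub_cancel_left]
    exact hc
  choose nxt hnxt using step
  let z : (j : ℕ) → {y : R // y ∈ I (k₀ + j)} := fun j =>
    Nat.rec (motive := fun j => {y : R // y ∈ I (k₀ + j)}) ⟨x, hx⟩ (fun j prev => nxt j prev) j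
  have hz0 : (z 0).1 = x := rfl
  have hzs : ∀ j, (z j).1 - (z (j + 1)).1 ∈ 𝔪 ^ (k₀ + j + 1) := fun j => hnxt j (z j)
  -- Cauchy property
  have hcauchy : ∀ a b, a ≤ b → (z a).1 - (z b).1 ∈ 𝔪 ^ (k₀ + a + 1) := by
    intro a b hab
    induction hab with
    | refl => rw [sub_self]; exact Ideal.zero_mem _
    | @step b hab ih =>
      have h1 : (z a).1 - (z (b + 1)).1 = ((z a).1 - (z b).1) + ((z b).1 - (z (b + 1)).1) := by ring
      rw [h1]
      refine Ideal.add_mem _ ih ?_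
      have hab' : a ≤ b := hab
      exact Ideal.pow_le_pow_right (by omega) (hzs b)
  have hprec := IsAdicComplete.toIsPrecomplete (I := 𝔪) (M := R)
  obtain ⟨L, hL⟩ := hprec.prec (f := fun j => (z j).1) (by
    intro a b hab
    rw [SModEq.sub_mem, smul_eq_mul, Ideal.mul_top]
    exact Ideal.pow_le_pow_right (by omega) (hcauchy a b hab))
  have hL' : ∀ j, (z j).1 - L ∈ 𝔪 ^ (k₀ + j + 1) := by
    intro j
    have h1 := hL (k₀ + j + 1)
    rw [SModEq.sub_mem, smul_eq_mul, Ideal.mul_top] at h1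
    have h2 := hcauchy j (k₀ + j + 1) (by omega)
    have h3 : (z j).1 - L = ((z j).1 - (z (k₀ + j + 1)).1) + ((z (k₀ + j + 1)).1 - L) := by ring
    rw [h3]
    exact Ideal.add_mem _ h2 h1
  have hLmem : ∀ j, L ∈ I (k₀ + j) := by
    intro j
    have h1 : L = (z j).1 - ((z j).1 - L) := by ring
    rw [h1]
    exact Ideal.sub_mem _ (z j).2 (hpow (k₀ + j) (hL' j))
  have hLI : L ∈ ⨅ j, I j := by
    rw [Submodule.mem_iInf]
    intro j
    rcases le_total k₀ j with h | h
    · obtain ⟨i, rfl⟩ := Nat.exists_eq_add_of_le h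
      exact hLmem i
    · exact hanti' j k₀ h (by simpa using hLmem 0)
  have hxL : x = L + (x - L) := by ring
  rw [hxL]
  refine Submodule.add_mem_sup hLI ?_
  have := hL' 0
  rwa [hz0, add_zero] at this

/-- The abstract existence theorem for a smallest ideal with an intersection-stable, upward closed
property that can be tested modulo powers of the maximal ideal. -/
theorem exists_smallest_ideal [IsAdicComplete (maximalIdeal R) R] (P : Ideal R → Prop)
    (hinf : ∀ J₁ J₂, P J₁ → P J₂ → P (J₁ ⊓ J₂))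
    (hmono : ∀ J J', J ≤ J' → P J → P J')
    (hm : P (maximalIdeal R))
    (hlim : ∀ I : Ideal R, (∀ n : ℕ, 0 < n → P (I ⊔ maximalIdeal R ^ n)) → P I) :
    ∃ I : Ideal R, I ≤ maximalIdeal R ∧ P I ∧ ∀ J, P J → I ≤ J := by
  set 𝔪 := maximalIdeal R with h𝔪
  choose I' hI'pow hI'P hI'min using exists_smallest_of_pow_le P hinf hm
  have hanti : ∀ k, I' (k + 1) ≤ I' k := fun k =>
    hI'min (k + 1) (I' k) (le_trans (Ideal.pow_le_pow_right (by omega)) (hI'pow k)) (hI'P k)
  have hstep : ∀ k, I' k ≤ I' (k + 1) ⊔ 𝔪 ^ (k + 1) := fun k =>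
    hI'min k _ le_sup_right (hmono _ _ le_sup_left (hI'P (k + 1)))
  have hchain := le_iInf_sup_pow_of_chain I' hI'pow hanti hstep
  refine ⟨⨅ j, I' j, ?_, ?_, ?_⟩
  · refine le_trans (iInf_le _ 0) ?_
    refine hI'min 0 𝔪 ?_ hm
    rw [zero_add, pow_one]
  · apply hlim
    intro n hn
    obtain ⟨k, rfl⟩ : ∃ k, n = k + 1 := ⟨n - 1, by omega⟩
    exact hmono _ _ (hchain k) (hI'P k)
  · intro J hJ
    by_cases hJtop : J = ⊤
    · rw [hJtop]; exact le_top
    have hJm : J ≤ 𝔪 := IsLocalRing.le_maximalIdeal hJtop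
    have hle : ∀ k, (⨅ j, I' j) ≤ J ⊔ 𝔪 ^ (k + 1) := fun k =>
      le_trans (iInf_le _ k) (hI'min k _ le_sup_right (hmono _ _ le_sup_left hJ))
    intro x hx
    -- Krull intersection in the finite `R`-module `R ⧸ J`
    have hkrull := Ideal.iInf_pow_smul_eq_bot_of_isLocalRing (M := R ⧸ J) 𝔪
      (maximalIdeal.isMaximal R).ne_top
    have hmem : (Ideal.Quotient.mk J x : R ⧸ J) ∈ (⨅ i : ℕ, 𝔪 ^ i • ⊤ : Submodule R (R ⧸ J)) := by
      rw [Submodule.mem_iInf]
      intro i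
      have h1 := hle i hx
      obtain ⟨a, ha, c, hc, rfl⟩ := Submodule.mem_sup.mp h1
      rw [map_add, Ideal.Quotient.eq_zero_iff_mem.mpr ha, zero_add]
      have h2 : c ∈ 𝔪 ^ i := Ideal.pow_le_pow_right (Nat.le_succ i) hc
      have h3 : (Ideal.Quotient.mk J c : R ⧸ J) = c • (1 : R ⧸ J) := by
        rw [Algebra.smul_def, mul_one]; rfl
      rw [h3]
      exact Submodule.smul_mem_smul h2 Submodule.mem_top
    rw [hkrull] at hmem
    exact Ideal.Quotient.eq_zero_iff_mem.mp ((Submodule.mem_bot R).mp hmem)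

end Abstract

section Criterion

variable {R : Type u} [CommRing R] [IsNoetherianRing R]

/-- Relative form of the local criterion: flatness of `L / I L` over `R / I` can be tested modulo
`I + 𝔪 ^ n`, for a finite module over a Noetherian `R`-algebra `B` with `𝔪 B` in the radical. -/
theorem flat_quotient_of_flat_quotient_sup_pow (𝔪 I : Ideal R) (B : Type u) [CommRing B]
    [IsNoetherianRing B] [Algebra R B] (h𝔪 : 𝔪.map (algebraMap R B) ≤ Ideal.jacobson ⊥)
    (L : Type u) [AddCommGroup L] [Module B L] [Module R L] [IsScalarTower R B L]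
    [Module.Finite B L]
    (h : ∀ n : ℕ, 0 < n → Module.Flat (R ⧸ (I ⊔ 𝔪 ^ n)) ((R ⧸ (I ⊔ 𝔪 ^ n)) ⊗[R] L)) :
    Module.Flat (R ⧸ I) ((R ⧸ I) ⊗[R] L) := by
  let mbar : Ideal (R ⧸ I) := 𝔪.map (Ideal.Quotient.mk I)
  refine flat_of_flat_quotient_pow_of_isHausdorff mbar ?_ ?_
  · intro K
    refine ⟨fun x hx => ?_⟩
    let e₁ := TensorProduct.AlgebraTensorModule.cancelBaseChange R (R ⧸ I) (R ⧸ I) K L
    let e₂ := TensorProduct.comm R K L
    let φ : (K ⊗[R ⧸ I] ((R ⧸ I) ⊗[R] L)) →ₗ[R] (L ⊗[R] K) :=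
      e₂.toLinearMap ∘ₗ (e₁.toLinearMap.restrictScalars R)
    have hφinj : Injective φ := e₂.injective.comp e₁.injective
    haveI : Module.Finite R K := Module.Finite.trans (R ⧸ I) K
    haveI hfin : Module.Finite B (L ⊗[R] K) := finite_tensorProduct_of_finite
    have hkrull := Ideal.iInf_pow_smul_eq_bot_of_le_jacobson (𝔪.map (algebraMap R B))
      (M := L ⊗[R] K) h𝔪
    have hmem : φ x ∈ (⨅ i : ℕ, (𝔪.map (algebraMap R B)) ^ i • ⊤ : Submodule B (L ⊗[R] K)) := by
      rw [Submodule.mem_iInf]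
      intro n
      have hxn := hx n
      rw [SModEq.zero] at hxn
      refine Submodule.smul_induction_on hxn ?_ ?_
      · intro a ha x' _
        rw [← Ideal.map_pow] at ha
        obtain ⟨a, ha', rfl⟩ :=
          (Ideal.mem_map_iff_of_surjective _ Ideal.Quotient.mk_surjective).mp ha
        have h1 : (Ideal.Quotient.mk I a) • x' = a • x' := by
          rw [← algebraMap_smul (R ⧸ I) a x']; rfl
        rw [h1, map_smul, ← algebraMap_smul B a (φ x')]
        refine Submodule.smul_mem_smul ?_ Submodule.mem_top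
        rw [← Ideal.map_pow]
        exact Ideal.mem_map_of_mem _ ha'
      · intro y y' hy hy'
        rw [map_add]
        exact Submodule.add_mem _ hy hy'
    rw [hkrull] at hmem
    apply hφinj
    rw [(Submodule.mem_bot B).mp hmem, map_zero]
  · intro n hn
    have := h n hn
    have hC : (I ⊔ 𝔪 ^ n).map (algebraMap R ((R ⧸ I) ⧸ mbar ^ n)) = ⊥ := by
      rw [IsScalarTower.algebraMap_eq R (R ⧸ I) ((R ⧸ I) ⧸ mbar ^ n), ← Ideal.map_map,
        Ideal.Quotient.algebraMap_eq, Ideal.Quotient.algebraMap_eq, Ideal.map_sup,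
        Ideal.map_quotient_self, bot_sup_eq, Ideal.map_pow, Ideal.map_quotient_self]
    have hflat := flat_of_map_eq_bot (M := L) (I ⊔ 𝔪 ^ n) ((R ⧸ I) ⧸ mbar ^ n) hC
    exact Module.Flat.of_linearEquiv
      (TensorProduct.AlgebraTensorModule.cancelBaseChange R (R ⧸ I) ((R ⧸ I) ⧸ mbar ^ n)
        ((R ⧸ I) ⧸ mbar ^ n) L)

end Criterion

end Groth.Agent.H70.FlatAss
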