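import Groth.Agent.H70.FlatAss.FibreReg
import Mathlib.RingTheory.Localization.BaseChange
import Mathlib.Algebra.Module.LocalizedModule.Exact

/-!
# Four-term exact sequences, flatness and depth of the closed fibre (helper70)
-/

set_option autoImplicit false
universe u
open scoped TensorProduct Pointwise
open Function (Injective Surjective Exact)

namespace Groth.Agent.H70.FlatAss

open Groth.Agent.H70.FC.T1 Groth.Agent.H70.FC.FP

section Flat3

variable {R : Type u} [CommRing R] {M' M M'' : Type u} [AddCommGroup M'] [Module R M']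
  [AddCommGroup M] [Module R M] [AddCommGroup M''] [Module R M'']

/-- The kernel of a surjection of flat modules is flat. -/
theorem flat_of_exact_of_flat (f : M' →ₗ[R] M) (g : M →ₗ[R] M'') (hf : Injective f)
    (hfg : Exact f g) (hg : Surjective g) [Module.Flat R M] [Module.Flat R M''] :
    Module.Flat R M' := by
  rw [Module.Flat.iff_rTensor_injective']
  intro I
  have h1 : Injective (f.lTensor I) :=
    lTensor_injective_of_tor1Zero f g hf hfg hg tor1Zero_of_flat_left
  have h2 : Injective (I.subtype.rTensor M) :=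
    Module.Flat.rTensor_preserves_injective_linearMap _ (Submodule.injective_subtype I)
  have h3 : Injective ((f.lTensor R) ∘ₗ (I.subtype.rTensor M')) := by
    rw [LinearMap.lTensor_comp_rTensor, ← LinearMap.rTensor_comp_lTensor]
    exact h2.comp h1
  exact Function.Injective.of_comp h3

end Flat3

section Loc

variable {A B : Type u} [CommRing A] [CommRing B] [Algebra A B]

/-- Localization over `B` of a `B`-module flat over `A` is flat over `A`. -/
theorem flat_localizedModule_of_flat (S : Submonoid B) (N : Type u) [AddCommGroup N] [Module B N]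
    [Module A N] [IsScalarTower A B N] [Module.Flat A N] :
    Module.Flat A (LocalizedModule S N) := by
  have H : Module.Flat A N := inferInstance
  simp_rw [Module.Flat.iff_lTensor_injectiveₛ] at H ⊢
  intro P _ _ Q
  have h1 := H Q
  let g := LocalizedModule.mkLinearMap S N
  have h2 := IsLocalizedModule.map_lTensor (R := A) (A := B) S Q.subtype g
  have h3 : Injective (IsLocalizedModule.map S
      (TensorProduct.AlgebraTensorModule.rTensor A Q g)
      (TensorProduct.AlgebraTensorModule.rTensor A P g)
      (TensorProduct.AlgebraTensorModule.lTensor B N Q.subtype)) :=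
    IsLocalizedModule.map_injective S _ _ _ h1
  rw [h2] at h3
  exact h3

variable {N' N N'' : Type u} [AddCommGroup N'] [Module B N'] [Module A N'] [IsScalarTower A B N']
  [AddCommGroup N] [Module B N] [Module A N] [IsScalarTower A B N]
  [AddCommGroup N''] [Module B N''] [Module A N''] [IsScalarTower A B N'']

/-- the localized map, as a `B`-linear map. -/
noncomputable abbrev locMap (S : Submonoid B) (i : N' →ₗ[B] N) :
    LocalizedModule S N' →ₗ[B] LocalizedModule S N :=
  IsLocalizedModule.map S (LocalizedModule.mkLinearMap S N') (LocalizedModule.mkLinearMap S N) i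

/-- If `i_q ⊗ T` is injective, elements of `ker (i ⊗ T)` are killed by some `s ∉ q`. -/
theorem exists_smul_eq_zero_of_locMap_rTensor_injective (q : Ideal B) [q.IsPrime]
    (i : N' →ₗ[B] N) (T : Type u) [AddCommGroup T] [Module A T]
    (hinj : Injective (((locMap q.primeCompl i).restrictScalars A).rTensor T))
    (t : N' ⊗[A] T) (ht : (i.restrictScalars A).rTensor T t = 0) :
    ∃ s : B, s ∉ q ∧ s • t = 0 := by
  let g' := LocalizedModule.mkLinearMap q.primeCompl N'
  let g := LocalizedModule.mkLinearMap q.primeCompl N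
  have h0 : (TensorProduct.AlgebraTensorModule.rTensor A T g') t = 0 := by
    apply hinj
    have h1 : ∀ z : N' ⊗[A] T, ((locMap q.primeCompl i).restrictScalars A).rTensor T
        ((TensorProduct.AlgebraTensorModule.rTensor A T g') z) =
        (TensorProduct.AlgebraTensorModule.rTensor A T g) ((i.restrictScalars A).rTensor T z) := by
      intro z
      induction z using TensorProduct.induction_on with
      | zero => simp
      | tmul m n =>
        change (locMap q.primeCompl i (g' m)) ⊗ₜ[A] n = (g (i m)) ⊗ₜ[A] n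
        rw [IsLocalizedModule.map_apply]
      | add a b ha hb => simp only [map_add, ha, hb]
    rw [h1, ht, map_zero, map_zero]
  have h0' : (TensorProduct.AlgebraTensorModule.rTensor A T g') t =
      (TensorProduct.AlgebraTensorModule.rTensor A T g') 0 := by
    rw [map_zero]; exact h0
  obtain ⟨c, hc⟩ := IsLocalizedModule.exists_of_eq (S := q.primeCompl) h0'
  exact ⟨c.1, c.2, by rw [smul_zero] at hc; exact hc⟩

/-- If `i_q ⊗ T` is injective for all `q ∌ J`, elements of `ker (i ⊗ T)` are killed by a power of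
any `x ∈ J`. -/
theorem exists_pow_smul_eq_zero_of_locMap_rTensor_injective (J : Ideal B)
    (i : N' →ₗ[B] N) (T : Type u) [AddCommGroup T] [Module A T]
    (hinj : ∀ q : PrimeSpectrum B, ¬ J ≤ q.asIdeal →
      Injective (((locMap q.asIdeal.primeCompl i).restrictScalars A).rTensor T))
    (t : N' ⊗[A] T) (ht : (i.restrictScalars A).rTensor T t = 0)
    (x : B) (hx : x ∈ J) : ∃ k : ℕ, x ^ k • t = 0 := by
  let ann : Ideal B := LinearMap.ker (LinearMap.toSpanSingleton B (N' ⊗[A] T) t)
  have hmem : ∀ b : B, b ∈ ann ↔ b • t = 0 := by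
    intro b
    rw [LinearMap.mem_ker, LinearMap.toSpanSingleton_apply]
  have hrad : x ∈ ann.radical := by
    rw [Ideal.radical_eq_sInf, Submodule.mem_sInf]
    rintro q ⟨hle, hq⟩
    by_contra hxq
    have hJq : ¬ J ≤ q := fun h => hxq (h hx)
    obtain ⟨s, hsq, hst⟩ := exists_smul_eq_zero_of_locMap_rTensor_injective q i T
      (hinj ⟨q, hq⟩ hJq) t ht
    exact hsq (hle ((hmem s).mpr hst))
  obtain ⟨k, hk⟩ := hrad
  exact ⟨k, (hmem _).mp hk⟩

/-- Localized short exact sequence with flat cokernel stays injective after tensoring. -/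
theorem locMap_rTensor_injective_of_flat (S : Submonoid B)
    (i : N' →ₗ[B] N) (p : N →ₗ[B] N'') (hi : Injective i) (hip : Exact i p) (hp : Surjective p)
    [Module.Flat A (LocalizedModule S N'')] (T : Type u) [AddCommGroup T] [Module A T] :
    Injective (((locMap S i).restrictScalars A).rTensor T) := by
  have h := lTensor_injective_of_tor1Zero (M := T)
    ((locMap S i).restrictScalars A) ((locMap S p).restrictScalars A)
    (IsLocalizedModule.map_injective S _ _ _ hi)
    (IsLocalizedModule.map_exact S _ _ _ _ _ hip)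
    (IsLocalizedModule.map_surjective S _ _ _ hp) tor1Zero_of_flat_left
  exact (LinearMap.lTensor_inj_iff_rTensor_inj _ _).mp h

/-- In a localized short exact sequence with flat middle and right terms, the left term is
flat. -/
theorem flat_localizedModule_of_exact (S : Submonoid B)
    (i : N' →ₗ[B] N) (p : N →ₗ[B] N'') (hi : Injective i) (hip : Exact i p) (hp : Surjective p)
    [Module.Flat A (LocalizedModule S N)] [Module.Flat A (LocalizedModule S N'')] :
    Module.Flat A (LocalizedModule S N') :=
  flat_of_exact_of_flat ((locMap S i).restrictScalars A) ((locMap S p).restrictScalars A)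
    (IsLocalizedModule.map_injective S _ _ _ hi)
    (IsLocalizedModule.map_exact S _ _ _ _ _ hip)
    (IsLocalizedModule.map_surjective S _ _ _ hp)

end Loc

section Fibre

variable {A B : Type u} [CommRing A] [CommRing B] [Algebra A B]
  {N' N N'' : Type u} [AddCommGroup N'] [Module B N'] [Module A N'] [IsScalarTower A B N']
  [AddCommGroup N] [Module B N] [Module A N] [IsScalarTower A B N]
  [AddCommGroup N''] [Module B N''] [Module A N''] [IsScalarTower A B N'']

/-- Key lemma: for a short exact sequence `0 → N' → N → N'' → 0` of `B`-modules with `N''` flat over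
`A` at all primes not containing `J`, and `x ∈ J` regular on `N' / 𝔞 N'`, the map
`A/𝔞 ⊗ N' → A/𝔞 ⊗ N` is injective. -/
theorem lTensor_quotient_injective_of_flatAt_off (J : Ideal B) (𝔞 : Ideal A)
    (i : N' →ₗ[B] N) (p : N →ₗ[B] N'') (hi : Injective i) (hip : Exact i p) (hp : Surjective p)
    (hU : ∀ q : PrimeSpectrum B, ¬ J ≤ q.asIdeal →
      Module.Flat A (LocalizedModule q.asIdeal.primeCompl N''))
    (x : B) (hxJ : x ∈ J)
    (hx : IsSMulRegular (N' ⧸ (𝔞.map (algebraMap A B) • (⊤ : Submodule B N'))) x) :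
    Injective ((i.restrictScalars A).lTensor (A ⧸ 𝔞)) := by
  rw [injective_iff_map_eq_zero]
  intro t ht
  have ht' : (i.restrictScalars A).rTensor (A ⧸ 𝔞) (TensorProduct.comm A (A ⧸ 𝔞) N' t) = 0 := by
    rw [LinearMap.rTensor_comm, ht, map_zero]
  obtain ⟨j, hj⟩ := exists_pow_smul_eq_zero_of_locMap_rTensor_injective J i (A ⧸ 𝔞)
    (fun q hq => by
      haveI := hU q hq
      exact locMap_rTensor_injective_of_flat q.asIdeal.primeCompl i p hi hip hp (A ⧸ 𝔞))
    _ ht' x hxJ
  have hμinj : Injective ((mulEnd (A := A) N' (x ^ j)).lTensor (A ⧸ 𝔞)) :=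
    (lTensor_quotient_injective_iff N' 𝔞 (x ^ j)).mpr (hx.pow j)
  have hμy : ∀ z : (A ⧸ 𝔞) ⊗[A] N',
      TensorProduct.comm A (A ⧸ 𝔞) N' ((mulEnd (A := A) N' (x ^ j)).lTensor (A ⧸ 𝔞) z) =
        x ^ j • TensorProduct.comm A (A ⧸ 𝔞) N' z := by
    intro z
    induction z using TensorProduct.induction_on with
    | zero => simp
    | tmul k w => simp [TensorProduct.smul_tmul']
    | add a b ha hb => simp only [map_add, ha, hb, smul_add]
  apply hμinj
  apply (TensorProduct.comm A (A ⧸ 𝔞) N').injective
  rw [hμy, hj, map_zero, map_zero]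

/-- `(A/𝔞) ⊗ M ≃ M / 𝔞B M`. -/
noncomputable def fibEquiv (𝔞 : Ideal A) (M : Type u) [AddCommGroup M] [Module B M] [Module A M]
    [IsScalarTower A B M] :
    (A ⧸ 𝔞) ⊗[A] M ≃ₗ[A] (M ⧸ (𝔞.map (algebraMap A B) • (⊤ : Submodule B M))) :=
  (TensorProduct.quotTensorEquivQuotSMul M 𝔞) ≪≫ₗ
    (Submodule.quotEquivOfEq _ ((𝔞.map (algebraMap A B) • (⊤ : Submodule B M)).restrictScalars A)
      (by rw [Ideal.smul_restrictScalars, Submodule.restrictScalars_top])) ≪≫ₗ
    (Submodule.Quotient.restrictScalarsEquiv A (𝔞.map (algebraMap A B) • (⊤ : Submodule B M)))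

theorem fibEquiv_mk_tmul (𝔞 : Ideal A) (M : Type u) [AddCommGroup M] [Module B M] [Module A M]
    [IsScalarTower A B M] (a : A) (y : M) :
    fibEquiv (B := B) 𝔞 M (Ideal.Quotient.mk 𝔞 a ⊗ₜ[A] y) = Submodule.Quotient.mk (a • y) := by
  simp only [fibEquiv, LinearEquiv.trans_apply, TensorProduct.quotTensorEquivQuotSMul_mk_tmul,
    Submodule.quotEquivOfEq_mk, Submodule.Quotient.restrictScalarsEquiv_mk]

/-- the map induced on `N / 𝔟 N`. -/
noncomputable abbrev fibMap (𝔟 : Ideal B) (i : N' →ₗ[B] N) :
    (N' ⧸ (𝔟 • (⊤ : Submodule B N'))) →ₗ[B] (N ⧸ (𝔟 • (⊤ : Submodule B N))) :=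
  Submodule.mapQ _ _ i (Submodule.smul_top_le_comap_smul_top 𝔟 i)

theorem fibEquiv_natural (𝔞 : Ideal A) (i : N' →ₗ[B] N) (z : (A ⧸ 𝔞) ⊗[A] N') :
    fibEquiv (B := B) 𝔞 N ((i.restrictScalars A).lTensor (A ⧸ 𝔞) z) =
      fibMap (𝔞.map (algebraMap A B)) i (fibEquiv (B := B) 𝔞 N' z) := by
  induction z using TensorProduct.induction_on with
  | zero => simp
  | tmul a y =>
    obtain ⟨a, rfl⟩ := Ideal.Quotient.mk_surjective a
    rw [LinearMap.lTensor_tmul, fibEquiv_mk_tmul, fibEquiv_mk_tmul, Submodule.mapQ_apply,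
      LinearMap.restrictScalars_apply, ← algebraMap_smul B a y, map_smul, algebraMap_smul]
  | add a b ha hb => simp only [map_add, ha, hb]

theorem fibMap_injective_iff (𝔞 : Ideal A) (i : N' →ₗ[B] N) :
    Injective (fibMap (𝔞.map (algebraMap A B)) i) ↔
      Injective ((i.restrictScalars A).lTensor (A ⧸ 𝔞)) := by
  constructor
  · intro h z w hzw
    apply (fibEquiv (B := B) 𝔞 N').injective
    apply h
    rw [← fibEquiv_natural, ← fibEquiv_natural, hzw]
  · intro h z w hzw
    obtain ⟨z, rfl⟩ := (fibEquiv (B := B) 𝔞 N').surjective z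
    obtain ⟨w, rfl⟩ := (fibEquiv (B := B) 𝔞 N').surjective w
    rw [← fibEquiv_natural, ← fibEquiv_natural] at hzw
    rw [h ((fibEquiv (B := B) 𝔞 N).injective hzw)]

omit [Algebra A B] [Module A N'] [IsScalarTower A B N'] [Module A N] [IsScalarTower A B N]
  [Module A N''] [IsScalarTower A B N''] in
theorem fibMap_surjective (𝔟 : Ideal B) (p : N →ₗ[B] N'') (hp : Surjective p) :
    Surjective (fibMap 𝔟 p) := by
  intro z
  obtain ⟨z, rfl⟩ := Submodule.Quotient.mk_surjective _ z
  obtain ⟨y, rfl⟩ := hp z
  exact ⟨Submodule.Quotient.mk y, rfl⟩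

omit [Algebra A B] [Module A N'] [IsScalarTower A B N'] [Module A N] [IsScalarTower A B N]
  [Module A N''] [IsScalarTower A B N''] in
theorem fibMap_exact (𝔟 : Ideal B) (i : N' →ₗ[B] N) (p : N →ₗ[B] N'') (hip : Exact i p)
    (hp : Surjective p) : Exact (fibMap 𝔟 i) (fibMap 𝔟 p) := by
  intro z
  obtain ⟨z, rfl⟩ := Submodule.Quotient.mk_surjective _ z
  constructor
  · intro hz
    rw [Submodule.mapQ_apply, Submodule.Quotient.mk_eq_zero] at hz
    have h1 : (𝔟 • (⊤ : Submodule B N'')) = (𝔟 • (⊤ : Submodule B N)).map p := by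
      rw [Submodule.map_smul'', Submodule.map_top, LinearMap.range_eq_top.mpr hp]
    rw [h1] at hz
    obtain ⟨e, he, hez⟩ := hz
    have h2 : p (z - e) = 0 := by rw [map_sub, hez, sub_self]
    obtain ⟨y, hy⟩ := (hip _).mp h2
    refine ⟨Submodule.Quotient.mk y, ?_⟩
    rw [Submodule.mapQ_apply, hy, Submodule.Quotient.mk_sub, sub_eq_self,
      Submodule.Quotient.mk_eq_zero]
    exact he
  · rintro ⟨y, hy⟩
    rw [← hy]
    obtain ⟨y, rfl⟩ := Submodule.Quotient.mk_surjective _ y
    rw [Submodule.mapQ_apply, Submodule.mapQ_apply, hip.apply_apply_eq_zero,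
      Submodule.Quotient.mk_zero]

end Fibre

section Local

open IsLocalRing

variable {B : Type u} [CommRing B] [IsLocalRing B]

/-- Over a local ring, `J`-depth `≥ 1` of a finite module gives a regular element in `J`, also in the
degenerate case `J M = M`. -/
theorem exists_regular_of_one_le_idealDepth_local (J : Ideal B) (M : Type u) [AddCommGroup M]
    [Module B M] [Module.Finite B M] (h1 : 1 ≤ LocCoh.idealDepth J M) :
    ∃ x ∈ J, IsSMulRegular M x := by
  by_cases hJtop : J = ⊤
  · exact ⟨1, hJtop ▸ Submodule.mem_top, fun a b h => by simpa using h⟩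
  by_cases hne : J • (⊤ : Submodule B M) = ⊤
  · have hJ : J ≤ Ideal.jacobson ⊥ := by
      rw [IsLocalRing.jacobson_eq_maximalIdeal ⊥ bot_ne_top]
      exact IsLocalRing.le_maximalIdeal hJtop
    have hbot := Submodule.eq_bot_of_le_smul_of_le_jacobson_bot J
      (⊤ : Submodule B M) Module.Finite.fg_top hne.ge hJ
    have hsub : Subsingleton M :=
      (Submodule.subsingleton_iff B).mp (subsingleton_of_bot_eq_top hbot.symm)
    exact ⟨0, J.zero_mem, fun a b _ => Subsingleton.elim a b⟩
  · exact Groth.Agent.H70.FC.D.exists_regular_of_one_le_idealDepth J _ hne h1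

theorem exists_regular_of_two_le_idealDepth_local (J : Ideal B) (M : Type u) [AddCommGroup M]
    [Module B M] [Module.Finite B M] (h2 : 2 ≤ LocCoh.idealDepth J M) :
    ∃ x ∈ J, ∃ y ∈ J, IsSMulRegular M x ∧ IsSMulRegular (QuotSMulTop x M) y := by
  by_cases hJtop : J = ⊤
  · exact ⟨1, hJtop ▸ Submodule.mem_top, 1, hJtop ▸ Submodule.mem_top,
      fun a b h => by simpa using h, fun a b h => by simpa using h⟩
  by_cases hne : J • (⊤ : Submodule B M) = ⊤
  · have hJ : J ≤ Ideal.jacobson ⊥ := by
      rw [IsLocalRing.jacobson_eq_maximalIdeal ⊥ bot_ne_top]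
      exact IsLocalRing.le_maximalIdeal hJtop
    have hbot := Submodule.eq_bot_of_le_smul_of_le_jacobson_bot J
      (⊤ : Submodule B M) Module.Finite.fg_top hne.ge hJ
    have hsub : Subsingleton M :=
      (Submodule.subsingleton_iff B).mp (subsingleton_of_bot_eq_top hbot.symm)
    exact ⟨0, J.zero_mem, 0, J.zero_mem, fun a b _ => Subsingleton.elim a b,
      fun a b _ => Subsingleton.elim a b⟩
  · exact Groth.Agent.H70.FC.D.exists_regular_of_two_le_idealDepth J _ hne h2

variable {A : Type u} [CommRing A] [Algebra A B] [IsLocalRing A]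
  [IsNoetherianRing A] [IsNoetherianRing B] [IsLocalHom (algebraMap A B)]
  {N' N N'' : Type u} [AddCommGroup N'] [Module B N'] [Module A N'] [IsScalarTower A B N']
  [AddCommGroup N] [Module B N] [Module A N] [IsScalarTower A B N]
  [AddCommGroup N''] [Module B N''] [Module A N''] [IsScalarTower A B N'']

/-- For a short exact sequence `0 → N' → N → N'' → 0` of `B`-modules with `N` flat over `A`, `N''`
finite over `B` and flat over `A` off `V(J)`, and some `x ∈ J` regular on the closed fibre of `N'`,
the module `N''` is flat over `A`. -/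
theorem flat_of_exact_of_flatAt_off (J : Ideal B)
    (i : N' →ₗ[B] N) (p : N →ₗ[B] N'') (hi : Injective i) (hip : Exact i p) (hp : Surjective p)
    [Module.Flat A N] [Module.Finite B N'']
    (hU : ∀ q : PrimeSpectrum B, ¬ J ≤ q.asIdeal →
      Module.Flat A (LocalizedModule q.asIdeal.primeCompl N''))
    (x : B) (hxJ : x ∈ J)
    (hx : IsSMulRegular
      (N' ⧸ ((maximalIdeal A).map (algebraMap A B) • (⊤ : Submodule B N'))) x) :
    Module.Flat A N'' := by
  apply flat_of_tor1Zero_residue (B := B)
  rw [tor1Zero_iff_right (i.restrictScalars A) (p.restrictScalars A) hi hip hp]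
  exact lTensor_quotient_injective_of_flatAt_off J _ i p hi hip hp hU x hxJ hx

end Local

end Groth.Agent.H70.FlatAss
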