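import Groth.Agent.H58.LCDepth
import Groth.Agent.H98.LCRes.NonVanish

/-!
# A local cohomology diagram chase (helper70)

`P → Q0 → Q1 → R → 0` with `P → ker (Q0 → Q1)` an isomorphism up to `J`-power torsion,
`H^0_J(Q0) = H^1_J(Q0) = 0`, `H^0_J(Q1) = 0` and `H^2_J(P) = 0`; then `Γ_J(R) = 0`.
-/

set_option autoImplicit false
universe u
open CategoryTheory
open Function (Injective Surjective Exact)

namespace Groth.Agent.H70.FlatAss

open Groth.Agent.H58.LC

variable {B : Type u} [CommRing B] [IsNoetherianRing B] (J : Ideal B)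

/-- in a short exact sequence with `H^i(X₂) = 0` and `H^{i+1}(X₁) = 0` we get `H^i(X₃) = 0`. -/
theorem subsingleton_X₃ {S : ShortComplex (ModuleCat.{u} B)} (hS : S.ShortExact) (i : ℕ)
    (h2 : Subsingleton ((localCohomology J i).obj S.X₂))
    (h1 : Subsingleton ((localCohomology J (i + 1)).obj S.X₁)) :
    Subsingleton ((localCohomology J i).obj S.X₃) := by
  refine ⟨fun x y => ?_⟩
  obtain ⟨x₂, rfl⟩ := exact₃ J i hS x (Subsingleton.elim _ _)
  obtain ⟨y₂, rfl⟩ := exact₃ J i hS y (Subsingleton.elim _ _)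
  rw [Subsingleton.elim x₂ y₂]

theorem torsionSub_eq_bot_of_chase
    {P Q0 Q1 R : Type u} [AddCommGroup P] [Module B P] [AddCommGroup Q0] [Module B Q0]
    [AddCommGroup Q1] [Module B Q1] [AddCommGroup R] [Module B R]
    (a : P →ₗ[B] Q0) (b : Q0 →ₗ[B] Q1) (c : Q1 →ₗ[B] R)
    (hab : ∀ p, b (a p) = 0) (hbc : Exact b c) (hc : Surjective c)
    (hker : ∀ p, a p = 0 → p ∈ DRing.torsionSub J P)
    (hcoker : ∀ e, b e = 0 → ∃ n : ℕ, ∀ r ∈ J ^ n, r • e ∈ LinearMap.range a)
    (hQ0 : Subsingleton (LocCoh.H J 0 Q0)) (hQ0' : Subsingleton (LocCoh.H J 1 Q0))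
    (hQ1 : Subsingleton (LocCoh.H J 0 Q1))
    (hP : Subsingleton (LocCoh.H J 2 P)) :
    DRing.torsionSub J R = ⊥ := by
  -- SES3 : 0 → ker a → P → range a → 0
  have hS3 := shortExact_of (LinearMap.ker a).subtype a.rangeRestrict
    (Submodule.injective_subtype _) a.surjective_rangeRestrict (by
      intro p
      constructor
      · intro hp
        have : a p = 0 := congrArg Subtype.val hp
        exact ⟨⟨p, this⟩, rfl⟩
      · rintro ⟨⟨p, hp⟩, rfl⟩
        exact Subtype.ext hp)
  have hT3 : IsTors J (ModuleCat.of B (LinearMap.ker a)) := by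
    rintro ⟨p, hp⟩
    obtain ⟨n, hn⟩ := hker p hp
    exact ⟨n, fun r hr => Subtype.ext (hn r hr)⟩
  have hP' : Subsingleton ((localCohomology J 2).obj (ModuleCat.of B (LinearMap.range a))) := by
    have hbij := map_g_bijective_of_isTors J hS3 hT3 1
    refine ⟨fun x y => ?_⟩
    obtain ⟨x', rfl⟩ := hbij.2 x
    obtain ⟨y', rfl⟩ := hbij.2 y
    rw [Subsingleton.elim (h := hP) x' y']
  -- SES4 : 0 → range a → ker b → ker b / range a → 0
  have hle : LinearMap.range a ≤ LinearMap.ker b := by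
    rintro _ ⟨p, rfl⟩
    exact hab p
  let ι := Submodule.inclusion hle
  have hS4 := shortExact_of ι (LinearMap.range ι).mkQ (Submodule.inclusion_injective hle)
    (Submodule.mkQ_surjective _) (LinearMap.exact_map_mkQ_range ι)
  have hT4 : IsTors J (ModuleCat.of B (LinearMap.ker b ⧸ LinearMap.range ι)) := by
    intro z
    obtain ⟨⟨e, he⟩, rfl⟩ := Submodule.Quotient.mk_surjective _ z
    obtain ⟨n, hn⟩ := hcoker e he
    refine ⟨n, fun r hr => ?_⟩
    obtain ⟨p, hp⟩ := hn r hr
    change r • (Submodule.Quotient.mk (⟨e, he⟩ : LinearMap.ker b) :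
      LinearMap.ker b ⧸ LinearMap.range ι) = 0
    rw [← Submodule.Quotient.mk_smul, Submodule.Quotient.mk_eq_zero]
    exact ⟨⟨a p, ⟨p, rfl⟩⟩, Subtype.ext hp⟩
  have hK : Subsingleton ((localCohomology J 2).obj (ModuleCat.of B (LinearMap.ker b))) := by
    have hbij := map_f_bijective_of_isTors J hS4 hT4 0
    refine ⟨fun x y => ?_⟩
    obtain ⟨x', rfl⟩ := hbij.2 x
    obtain ⟨y', rfl⟩ := hbij.2 y
    rw [Subsingleton.elim (h := hP') x' y']
  -- SES1 : 0 → ker b → Q0 → range b → 0
  have hS1 := shortExact_of (LinearMap.ker b).subtype b.rangeRestrict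
    (Submodule.injective_subtype _) b.surjective_rangeRestrict (by
      intro e
      constructor
      · intro he
        have : b e = 0 := congrArg Subtype.val he
        exact ⟨⟨e, this⟩, rfl⟩
      · rintro ⟨⟨e, he⟩, rfl⟩
        exact Subtype.ext he)
  have hZ : Subsingleton ((localCohomology J 1).obj (ModuleCat.of B (LinearMap.range b))) :=
    subsingleton_X₃ J hS1 1 hQ0' hK
  -- SES2 : 0 → range b → Q1 → R → 0
  have hS2 := shortExact_of (LinearMap.range b).subtype c
    (Submodule.injective_subtype _) hc (by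
      intro e
      rw [hbc e]
      constructor
      · rintro ⟨q, rfl⟩
        exact ⟨⟨b q, ⟨q, rfl⟩⟩, rfl⟩
      · rintro ⟨⟨_, ⟨q, rfl⟩⟩, rfl⟩
        exact ⟨q, rfl⟩)
  have hR : Subsingleton ((localCohomology J 0).obj (ModuleCat.of B R)) :=
    subsingleton_X₃ J hS2 0 hQ1 hZ
  have : Subsingleton (DRing.torsionSub J (ModuleCat.of B R)) :=
    (H0equiv J (ModuleCat.of B R)).symm.toEquiv.subsingleton
  rw [eq_bot_iff]
  intro r hr
  have := Subsingleton.elim (⟨r, hr⟩ : DRing.torsionSub J (ModuleCat.of B R)) 0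
  exact congrArg Subtype.val this

/-- `J`-depth `≥ 1` kills `H^0_J`; `J`-depth `≥ 2` kills `H^0_J` and `H^1_J`. -/
theorem subsingleton_H0_of_regular (M : Type u) [AddCommGroup M] [Module B M] {x : B}
    (hx : x ∈ J) (hreg : IsSMulRegular M x) : Subsingleton (LocCoh.H J 0 M) :=
  subsingleton_H0_of_isSMulRegular J M hx hreg

theorem subsingleton_H1_of_regular (M : Type u) [AddCommGroup M] [Module B M] {x y : B}
    (hx : x ∈ J) (hy : y ∈ J) (hreg : IsSMulRegular M x)
    (hreg' : IsSMulRegular (QuotSMulTop x M) y) : Subsingleton (LocCoh.H J 1 M) :=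
  subsingleton_succ_of_isSMulRegular J M hx hreg 0
    (subsingleton_H0_of_isSMulRegular J (QuotSMulTop x M) hy hreg')

end Groth.Agent.H70.FlatAss
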