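import Groth.Agent.H70.FlatAss.FourTermMain
import Groth.Agent.H70.FlatAss.LCChase

/-!
# The four-term sequence criterion with `H^2_J` of the closed fibre vanishing (helper70)
-/

set_option autoImplicit false
universe u
open scoped TensorProduct Pointwise
open Function (Injective Surjective Exact)

namespace Groth.Agent.H70.FlatAss

open Groth.Agent.H70.FC.T1 Groth.Agent.H70.FC.FP IsLocalRing

section TorsKer

variable {A B : Type u} [CommRing A] [CommRing B] [Algebra A B]
  {N' N N'' : Type u} [AddCommGroup N'] [Module B N'] [Module A N'] [IsScalarTower A B N']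
  [AddCommGroup N] [Module B N] [Module A N] [IsScalarTower A B N]
  [AddCommGroup N''] [Module B N''] [Module A N''] [IsScalarTower A B N'']

theorem fibEquiv_mulEnd (𝔞 : Ideal A) (M : Type u) [AddCommGroup M] [Module B M] [Module A M]
    [IsScalarTower A B M] (b : B) (z : (A ⧸ 𝔞) ⊗[A] M) :
    fibEquiv (B := B) 𝔞 M ((mulEnd (A := A) M b).lTensor (A ⧸ 𝔞) z) =
      b • fibEquiv (B := B) 𝔞 M z := by
  induction z using TensorProduct.induction_on with
  | zero => simp
  | tmul a y =>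
    obtain ⟨a, rfl⟩ := Ideal.Quotient.mk_surjective a
    rw [LinearMap.lTensor_tmul, fibEquiv_mk_tmul, fibEquiv_mk_tmul]
    change Submodule.Quotient.mk (a • (b • y)) = b • Submodule.Quotient.mk (a • y)
    rw [← Submodule.Quotient.mk_smul, smul_comm]
  | add a b ha hb => simp only [map_add, ha, hb, smul_add]

/-- Elements of the kernel of `N'/𝔞N' → N/𝔞N` are killed by powers of every `x ∈ J`, when `N''`
is `A`-flat off `V(J)`. -/
theorem exists_pow_smul_eq_zero_of_fibMap_eq_zero (J : Ideal B) (𝔞 : Ideal A)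
    (i : N' →ₗ[B] N) (p : N →ₗ[B] N'') (hi : Injective i) (hip : Exact i p) (hp : Surjective p)
    (hU : ∀ q : PrimeSpectrum B, ¬ J ≤ q.asIdeal →
      Module.Flat A (LocalizedModule q.asIdeal.primeCompl N''))
    (t : N' ⧸ (𝔞.map (algebraMap A B) • (⊤ : Submodule B N')))
    (ht : fibMap (𝔞.map (algebraMap A B)) i t = 0) (x : B) (hx : x ∈ J) :
    ∃ k : ℕ, x ^ k • t = 0 := by
  obtain ⟨z, rfl⟩ := (fibEquiv (B := B) 𝔞 N').surjective t
  rw [← fibEquiv_natural] at ht
  have hz : (i.restrictScalars A).lTensor (A ⧸ 𝔞) z = 0 := by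
    apply (fibEquiv (B := B) 𝔞 N).injective
    rw [ht, map_zero]
  have ht' : (i.restrictScalars A).rTensor (A ⧸ 𝔞) (TensorProduct.comm A (A ⧸ 𝔞) N' z) = 0 := by
    rw [LinearMap.rTensor_comm, hz, map_zero]
  obtain ⟨j, hj⟩ := exists_pow_smul_eq_zero_of_locMap_rTensor_injective J i (A ⧸ 𝔞)
    (fun q hq => by
      haveI := hU q hq
      exact locMap_rTensor_injective_of_flat q.asIdeal.primeCompl i p hi hip hp (A ⧸ 𝔞))
    _ ht' x hx
  have hμy : ∀ z : (A ⧸ 𝔞) ⊗[A] N',
      TensorProduct.comm A (A ⧸ 𝔞) N' ((mulEnd (A := A) N' (x ^ j)).lTensor (A ⧸ 𝔞) z) =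
        x ^ j • TensorProduct.comm A (A ⧸ 𝔞) N' z := by
    intro z
    induction z using TensorProduct.induction_on with
    | zero => simp
    | tmul k w => simp [TensorProduct.smul_tmul']
    | add a b ha hb => simp only [map_add, ha, hb, smul_add]
  refine ⟨j, ?_⟩
  rw [← fibEquiv_mulEnd]
  have : (mulEnd (A := A) N' (x ^ j)).lTensor (A ⧸ 𝔞) z = 0 := by
    apply (TensorProduct.comm A (A ⧸ 𝔞) N').injective
    rw [hμy, hj, map_zero]
  rw [this, map_zero]

theorem mem_torsionSub_of_fibMap_eq_zero [IsNoetherianRing B] (J : Ideal B) (𝔞 : Ideal A)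
    (i : N' →ₗ[B] N) (p : N →ₗ[B] N'') (hi : Injective i) (hip : Exact i p) (hp : Surjective p)
    (hU : ∀ q : PrimeSpectrum B, ¬ J ≤ q.asIdeal →
      Module.Flat A (LocalizedModule q.asIdeal.primeCompl N''))
    (t : N' ⧸ (𝔞.map (algebraMap A B) • (⊤ : Submodule B N')))
    (ht : fibMap (𝔞.map (algebraMap A B)) i t = 0) :
    t ∈ DRing.torsionSub J (N' ⧸ (𝔞.map (algebraMap A B) • (⊤ : Submodule B N'))) := by
  let ann : Ideal B := LinearMap.ker (LinearMap.toSpanSingleton B _ t)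
  have hmem : ∀ b : B, b ∈ ann ↔ b • t = 0 := by
    intro b
    rw [LinearMap.mem_ker, LinearMap.toSpanSingleton_apply]
  have hrad : J ≤ ann.radical := by
    intro x hx
    obtain ⟨k, hk⟩ := exists_pow_smul_eq_zero_of_fibMap_eq_zero J 𝔞 i p hi hip hp hU t ht x hx
    exact ⟨k, (hmem _).mpr hk⟩
  obtain ⟨k, hk⟩ := Ideal.exists_pow_le_of_le_radical_of_fg hrad (IsNoetherian.noetherian J)
  exact ⟨k, fun a ha => (hmem a).mp (hk ha)⟩

end TorsKer

variable {A B : Type u} [CommRing A] [CommRing B] [Algebra A B] [IsLocalRing A] [IsLocalRing B]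
  [IsNoetherianRing A] [IsNoetherianRing B] [IsLocalHom (algebraMap A B)]

theorem fourTerm_flat_of_H2 (J : Ideal B)
    (F E0 E1 G : Type u) [AddCommGroup F] [Module B F] [Module A F] [IsScalarTower A B F]
    [Module.Finite B F]
    [AddCommGroup E0] [Module B E0] [Module A E0] [IsScalarTower A B E0] [Module.Finite B E0]
    [Module.Flat A E0]
    [AddCommGroup E1] [Module B E1] [Module A E1] [IsScalarTower A B E1] [Module.Finite B E1]
    [Module.Flat A E1]
    [AddCommGroup G] [Module B G] [Module A G] [IsScalarTower A B G] [Module.Finite B G]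
    (f : F →ₗ[B] E0) (u : E0 →ₗ[B] E1) (v : E1 →ₗ[B] G)
    (hf : Injective f) (hfu : Exact f u) (huv : Exact u v) (hv : Surjective v)
    (hGU : ∀ q : PrimeSpectrum B, ¬ J ≤ q.asIdeal →
      Module.Flat A (LocalizedModule q.asIdeal.primeCompl G))
    (h0 : 2 ≤ LocCoh.idealDepth J
      (E0 ⧸ ((maximalIdeal A).map (algebraMap A B) • (⊤ : Submodule B E0))))
    (h1 : 1 ≤ LocCoh.idealDepth J
      (E1 ⧸ ((maximalIdeal A).map (algebraMap A B) • (⊤ : Submodule B E1))))
    (hH2 : Subsingleton (LocCoh.H J 2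
      (F ⧸ ((maximalIdeal A).map (algebraMap A B) • (⊤ : Submodule B F))))) :
    Module.Flat A G := by
  set 𝔪 := maximalIdeal A with h𝔪
  set 𝔟 := 𝔪.map (algebraMap A B) with h𝔟
  let Z : Submodule B E1 := LinearMap.ker v
  let u' : E0 →ₗ[B] Z := u.codRestrict Z (fun x => huv.apply_apply_eq_zero x)
  have hu'surj : Surjective u' := by
    rintro ⟨z, hz⟩
    obtain ⟨e, rfl⟩ := (huv z).mp hz
    exact ⟨e, rfl⟩
  have hfu' : Exact f u' := by
    intro e
    rw [← hfu e]
    constructor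
    · intro h; exact congrArg Subtype.val h
    · intro h; exact Subtype.ext h
  have hιinj : Injective Z.subtype := Submodule.injective_subtype Z
  have hιv : Exact Z.subtype v := LinearMap.exact_subtype_ker_map v
  have hZU : ∀ q : PrimeSpectrum B, ¬ J ≤ q.asIdeal →
      Module.Flat A (LocalizedModule q.asIdeal.primeCompl Z) := fun q hq => by
    haveI := hGU q hq
    haveI := flat_localizedModule_of_flat (A := A) q.asIdeal.primeCompl E1
    exact flat_localizedModule_of_exact q.asIdeal.primeCompl Z.subtype v hιinj hιv hv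
  obtain ⟨x0, hx0J, y0, hy0J, hx0, hy0⟩ := exists_regular_of_two_le_idealDepth_local J
    (E0 ⧸ (𝔟 • (⊤ : Submodule B E0))) h0
  obtain ⟨x1, hx1J, hx1⟩ := exists_regular_of_one_le_idealDepth_local J
    (E1 ⧸ (𝔟 • (⊤ : Submodule B E1))) h1
  have hcomp : ∀ e, fibMap 𝔟 Z.subtype (fibMap 𝔟 u' e) = fibMap 𝔟 u e := by
    intro e
    obtain ⟨e, rfl⟩ := Submodule.Quotient.mk_surjective _ e
    rfl
  have htors : DRing.torsionSub J (G ⧸ (𝔟 • (⊤ : Submodule B G))) = ⊥ := by
    refine torsionSub_eq_bot_of_chase J (fibMap 𝔟 f) (fibMap 𝔟 u) (fibMap 𝔟 v) ?_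
      (fibMap_exact 𝔟 u v huv hv) (fibMap_surjective 𝔟 v hv) ?_ ?_
      (subsingleton_H0_of_regular J _ hx0J hx0) (subsingleton_H1_of_regular J _ hx0J hy0J hx0 hy0)
      (subsingleton_H0_of_regular J _ hx1J hx1) hH2
    · intro p
      obtain ⟨p, rfl⟩ := Submodule.Quotient.mk_surjective _ p
      rw [Submodule.mapQ_apply, Submodule.mapQ_apply, hfu.apply_apply_eq_zero,
        Submodule.Quotient.mk_zero]
    · intro p hp
      exact mem_torsionSub_of_fibMap_eq_zero J 𝔪 f u' hf hfu' hu'surj hZU p hp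
    · intro e he
      have hz : fibMap 𝔟 Z.subtype (fibMap 𝔟 u' e) = 0 := by rw [hcomp, he]
      obtain ⟨n, hn⟩ := mem_torsionSub_of_fibMap_eq_zero J 𝔪 Z.subtype v hιinj hιv hv hGU _ hz
      refine ⟨n, fun r hr => ?_⟩
      have : fibMap 𝔟 u' (r • e) = 0 := by rw [map_smul, hn r hr]
      exact (fibMap_exact 𝔟 f u' hfu' hu'surj (r • e)).mp this
  obtain ⟨x, hxJ, hx⟩ :=
    Groth.Agent.H98.LCRes.exists_isSMulRegular_of_torsionSub_eq_bot J _ htors
  exact flat_of_flatAt_off_of_isSMulRegular G J hGU x hxJ hx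

end Groth.Agent.H70.FlatAss
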