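import Groth.Agent.H70.FlatAss.FourTerm
import Groth.Agent.H2.DepthSES

/-!
# The four-term sequence criterion (helper70)
-/

set_option autoImplicit false
universe u
open scoped TensorProduct Pointwise
open Function (Injective Surjective Exact)

namespace Groth.Agent.H70.FlatAss

open Groth.Agent.H70.FC.T1 Groth.Agent.H70.FC.FP IsLocalRing

variable {A B : Type u} [CommRing A] [CommRing B] [Algebra A B] [IsLocalRing A] [IsLocalRing B]
  [IsNoetherianRing A] [IsNoetherianRing B] [IsLocalHom (algebraMap A B)]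

theorem fourTerm_main (J : Ideal B)
    (F E0 E1 G : Type u) [AddCommGroup F] [Module B F] [Module A F] [IsScalarTower A B F]
    [Module.Finite B F]
    [AddCommGroup E0] [Module B E0] [Module A E0] [IsScalarTower A B E0] [Module.Finite B E0]
    [Module.Flat A E0]
    [AddCommGroup E1] [Module B E1] [Module A E1] [IsScalarTower A B E1] [Module.Finite B E1]
    [Module.Flat A E1]
    [AddCommGroup G] [Module B G] [Module A G] [IsScalarTower A B G] [Module.Finite B G]
    (f : F →ₗ[B] E0) (u : E0 →ₗ[B] E1) (v : E1 →ₗ[B] G)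
    (hf : Injective f) (hfu : Exact f u) (huv : Exact u v) (hv : Surjective v)
    (hGU : ∀ q : PrimeSpectrum B, ¬ J ≤ q.asIdeal →
      Module.Flat A (LocalizedModule q.asIdeal.primeCompl G))
    (h0 : 2 ≤ LocCoh.idealDepth J
      (E0 ⧸ ((maximalIdeal A).map (algebraMap A B) • (⊤ : Submodule B E0))))
    (h1 : 1 ≤ LocCoh.idealDepth J
      (E1 ⧸ ((maximalIdeal A).map (algebraMap A B) • (⊤ : Submodule B E1)))) :
    (2 ≤ LocCoh.idealDepth J
      (F ⧸ ((maximalIdeal A).map (algebraMap A B) • (⊤ : Submodule B F))) → Module.Flat A G) ∧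
    (Module.Flat A G → Module.Flat A F ∧ 2 ≤ LocCoh.idealDepth J
      (F ⧸ ((maximalIdeal A).map (algebraMap A B) • (⊤ : Submodule B F)))) := by
  set 𝔪 := maximalIdeal A with h𝔪
  set 𝔟 := 𝔪.map (algebraMap A B) with h𝔟
  let Z : Submodule B E1 := LinearMap.ker v
  let u' : E0 →ₗ[B] Z := u.codRestrict Z (fun x => huv.apply_apply_eq_zero x)
  have hu'surj : Surjective u' := by
    rintro ⟨z, hz⟩
    obtain ⟨e, rfl⟩ := (huv z).mp hz
    exact ⟨e, rfl⟩
  have hfu' : Exact f u' := by
    intro e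
    rw [← hfu e]
    constructor
    · intro h; exact congrArg Subtype.val h
    · intro h; exact Subtype.ext h
  have hιinj : Injective Z.subtype := Submodule.injective_subtype Z
  have hιv : Exact Z.subtype v := LinearMap.exact_subtype_ker_map v
  have s1 : Surjective (fibMap 𝔟 u') := fibMap_surjective 𝔟 u' hu'surj
  have e1 : Exact (fibMap 𝔟 f) (fibMap 𝔟 u') := fibMap_exact 𝔟 f u' hfu' hu'surj
  have s2 : Surjective (fibMap 𝔟 v) := fibMap_surjective 𝔟 v hv
  have e2 : Exact (fibMap 𝔟 Z.subtype) (fibMap 𝔟 v) := fibMap_exact 𝔟 Z.subtype v hιv hv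
  constructor
  · intro hF
    obtain ⟨x, hxJ, hx⟩ := exists_regular_of_one_le_idealDepth_local J
      (F ⧸ (𝔟 • (⊤ : Submodule B F))) (le_trans one_le_two hF)
    have hZU : ∀ q : PrimeSpectrum B, ¬ J ≤ q.asIdeal →
        Module.Flat A (LocalizedModule q.asIdeal.primeCompl Z) := fun q hq => by
      haveI := hGU q hq
      haveI := flat_localizedModule_of_flat (A := A) q.asIdeal.primeCompl E1
      exact flat_localizedModule_of_exact q.asIdeal.primeCompl Z.subtype v hιinj hιv hv
    have hinj1 : Injective ((f.restrictScalars A).lTensor (A ⧸ 𝔪)) :=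
      lTensor_quotient_injective_of_flatAt_off J 𝔪 f u' hf hfu' hu'surj hZU x hxJ hx
    have inj1 : Injective (fibMap 𝔟 f) := (fibMap_injective_iff 𝔪 f).mpr hinj1
    have d1 := (Groth.Agent.H2.DepthSES.depth_lemma J (fibMap 𝔟 f) (fibMap 𝔟 u') inj1 s1 e1).2.1
    have hZ : 1 ≤ LocCoh.idealDepth J (Z ⧸ (𝔟 • (⊤ : Submodule B Z))) := by
      refine le_trans (le_min (le_trans one_le_two h0) ?_) d1
      exact ENat.le_sub_of_add_le_right ENat.one_ne_top (by rw [one_add_one_eq_two]; exact hF)
    obtain ⟨x', hx'J, hx'⟩ := exists_regular_of_one_le_idealDepth_local J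
      (Z ⧸ (𝔟 • (⊤ : Submodule B Z))) hZ
    exact flat_of_exact_of_flatAt_off J Z.subtype v hιinj hιv hv hGU x' hx'J hx'
  · intro hG
    have Zflat : Module.Flat A Z := flat_of_exact_of_flat (Z.subtype.restrictScalars A)
      (v.restrictScalars A) hιinj hιv hv
    have Fflat : Module.Flat A F := flat_of_exact_of_flat (f.restrictScalars A)
      (u'.restrictScalars A) hf hfu' hu'surj
    refine ⟨Fflat, ?_⟩
    have inj1 : Injective (fibMap 𝔟 f) := (fibMap_injective_iff 𝔪 f).mpr
      (lTensor_injective_of_tor1Zero (f.restrictScalars A) (u'.restrictScalars A) hf hfu' hu'surj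
        tor1Zero_of_flat_left)
    have inj2 : Injective (fibMap 𝔟 Z.subtype) := (fibMap_injective_iff 𝔪 Z.subtype).mpr
      (lTensor_injective_of_tor1Zero (Z.subtype.restrictScalars A) (v.restrictScalars A) hιinj hιv hv
        tor1Zero_of_flat_left)
    have d2 := (Groth.Agent.H2.DepthSES.depth_lemma J (fibMap 𝔟 Z.subtype) (fibMap 𝔟 v)
      inj2 s2 e2).2.2
    have hZ : 1 ≤ LocCoh.idealDepth J (Z ⧸ (𝔟 • (⊤ : Submodule B Z))) :=
      le_trans (le_min h1 le_add_self) d2
    have d1 := (Groth.Agent.H2.DepthSES.depth_lemma J (fibMap 𝔟 f) (fibMap 𝔟 u') inj1 s1 e1).2.2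
    refine le_trans (le_min h0 ?_) d1
    rw [← one_add_one_eq_two]
    exact add_le_add_left hZ 1

end Groth.Agent.H70.FlatAss
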